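import Mathlib

/-!
Linear algebra behind the passage from the involution centraliser hypotheses to the Janko-four type: an element of
order seven commuting with an isometry of order three that has a nonzero fixed vector acts trivially on the moved
part, and an element of order eleven is not inverted by a map commuting with a fixed-point-free one of order three.
-/

set_option autoImplicit false
set_option linter.style.haveILetI false

open scoped IsMulCommutative

namespace Cfsg.Agent.Spor.JFour.Bridge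

section Ring

variable {R : Type*} [CommRing R] (h2 : (2 : R) = 0)
include h2

theorem seven_ring {y : R} (h : y ^ 7 = 1) :
    (y + y ^ 2 + y ^ 3 + y ^ 4 + y ^ 5 + y ^ 6) * (y + y ^ 2 + y ^ 3 + y ^ 4 + y ^ 5 + y ^ 6) =
      y + y ^ 2 + y ^ 3 + y ^ 4 + y ^ 5 + y ^ 6 ∧
    (y ^ 3 + y + 1) * (y ^ 3 + y ^ 2 + 1) * (y + y ^ 2 + y ^ 3 + y ^ 4 + y ^ 5 + y ^ 6) = 0 ∧
    y * (y ^ 3 + y + 1) + (y + 1) * (y ^ 3 + y ^ 2 + 1) = 1 ∧
    (y ^ 6) ^ 3 + (y ^ 6) ^ 2 + 1 = y ^ 4 * (y ^ 3 + y + 1) ∧
    (y ^ 6) ^ 3 + y ^ 6 + 1 = y ^ 4 * (y ^ 3 + y ^ 2 + 1) ∧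
    (y + y ^ 2 + y ^ 3 + y ^ 4 + y ^ 5 + y ^ 6 + 1) * y = y + y ^ 2 + y ^ 3 + y ^ 4 + y ^ 5 + y ^ 6 + 1 := by
  refine ⟨?_, ?_, ?_, ?_, ?_, ?_⟩
  · linear_combination (6 + 5 * y + 4 * y ^ 2 + 3 * y ^ 3 + 2 * y ^ 4 + y ^ 5) * h +
      (3 + 2 * y + 2 * y ^ 2 + 2 * y ^ 3 + 2 * y ^ 4 + 2 * y ^ 5 + 2 * y ^ 6) * h2
  · linear_combination (8 + 7 * y + 6 * y ^ 2 + 3 * y ^ 3 + 2 * y ^ 4 + y ^ 5) * h +
      (4 + 4 * y + 4 * y ^ 2 + 3 * y ^ 3 + 4 * y ^ 4 + 4 * y ^ 5 + 4 * y ^ 6) * h2
  · linear_combination (y + y ^ 2 + y ^ 3 + y ^ 4) * h2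
  · linear_combination (-1 + y ^ 4 + y ^ 5 + y ^ 11) * h
  · linear_combination (y ^ 4 + y ^ 11 - 1) * h
  · linear_combination h

theorem eleven_ring {y : R} (h : y ^ 11 = 1) :
    (y + y ^ 2 + y ^ 3 + y ^ 4 + y ^ 5 + y ^ 6 + y ^ 7 + y ^ 8 + y ^ 9 + y ^ 10) *
      (y + y ^ 2 + y ^ 3 + y ^ 4 + y ^ 5 + y ^ 6 + y ^ 7 + y ^ 8 + y ^ 9 + y ^ 10) =
      y + y ^ 2 + y ^ 3 + y ^ 4 + y ^ 5 + y ^ 6 + y ^ 7 + y ^ 8 + y ^ 9 + y ^ 10 ∧
    (y + y ^ 3 + y ^ 4 + y ^ 5 + y ^ 9) * (y + y ^ 3 + y ^ 4 + y ^ 5 + y ^ 9) +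
      (y + y ^ 3 + y ^ 4 + y ^ 5 + y ^ 9) =
      y + y ^ 2 + y ^ 3 + y ^ 4 + y ^ 5 + y ^ 6 + y ^ 7 + y ^ 8 + y ^ 9 + y ^ 10 := by
  refine ⟨?_, ?_⟩
  · linear_combination (10 + 9 * y + 8 * y ^ 2 + 7 * y ^ 3 + 6 * y ^ 4 + 5 * y ^ 5 + 4 * y ^ 6 + 3 * y ^ 7 +
        2 * y ^ 8 + y ^ 9) * h +
      (5 + 4 * y + 4 * y ^ 2 + 4 * y ^ 3 + 4 * y ^ 4 + 4 * y ^ 5 + 4 * y ^ 6 + 4 * y ^ 7 + 4 * y ^ 8 + 4 * y ^ 9 +
        4 * y ^ 10) * h2
  · linear_combination (2 * y + 2 * y ^ 2 + 2 * y ^ 3 + y ^ 7) * h +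
      (y + y ^ 2 + y ^ 3 + y ^ 4 + y ^ 5 + y ^ 6 + y ^ 7 + y ^ 8 + y ^ 9 + y ^ 10) * h2

end Ring

variable {V : Type*} [AddCommGroup V] [Module (ZMod 2) V]

theorem two_eq : (2 : Module.End (ZMod 2) V) = 0 := by
  refine one_add_one_eq_two.symm.trans ?_
  exact ZModModule.add_self 1

theorem two_eq_adjoin (y : Module.End (ZMod 2) V) :
    (2 : Algebra.adjoin (ZMod 2) ({y} : Set (Module.End (ZMod 2) V))) = 0 :=
  Subtype.ext two_eq

/-- Adjointness for a bilinear map. -/
def Adj (B : LinearMap.BilinForm (ZMod 2) V) (x x' : Module.End (ZMod 2) V) : Prop :=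
  ∀ u v, B (x u) v = B u (x' v)

namespace Adj

variable {B : LinearMap.BilinForm (ZMod 2) V} {x x' w w' : Module.End (ZMod 2) V}

theorem add (hx : Adj B x x') (hw : Adj B w w') : Adj B (x + w) (x' + w') := fun u v => by
  simp only [LinearMap.add_apply, map_add]
  rw [hx u v, hw u v]

theorem mul (hx : Adj B x x') (hw : Adj B w w') : Adj B (x * w) (w' * x') := fun u v => by
  rw [Module.End.mul_apply, Module.End.mul_apply, hx, hw]

theorem one : Adj B 1 1 := fun _ _ => rfl

theorem pow (hx : Adj B x x') : ∀ n, Adj B (x ^ n) (x' ^ n)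
  | 0 => by rw [pow_zero, pow_zero]; exact one
  | n + 1 => by rw [pow_succ, pow_succ']; exact (pow hx n).mul hx

theorem of_isometry (h : ∀ u v, B (x u) (x v) = B u v) (hxw : x * w = 1) : Adj B x w := fun u v => by
  conv_lhs => rw [show v = x (w v) by rw [← Module.End.mul_apply, hxw, Module.End.one_apply]]
  exact h u (w v)

end Adj

variable [Finite V]

/-- Fixed-point-free action of an element of prime order. -/
theorem card_mod {p : ℕ} [Fact p.Prime] (K : Submodule (ZMod 2) V) (x : Module.End (ZMod 2) V) (hx : x ^ p = 1)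
    (hK : ∀ v ∈ K, x v ∈ K) (hfix : ∀ v ∈ K, x v = v → v = 0) : Nat.card K ≡ 1 [MOD p] := by
  classical
  let f : Function.End K := fun v => ⟨x v, hK _ v.2⟩
  have hit : ∀ n (v : K), (((f ^ n : Function.End K) v : K) : V) = (x ^ n) (v : V) := by
    intro n
    induction n with
    | zero => intro v; rfl
    | succ n ih => intro v; rw [pow_succ', pow_succ', Module.End.mul_apply, ← ih v]; rfl
  have hf : f ^ p ^ 1 = 1 := funext fun v => Subtype.ext (by rw [pow_one, hit, hx]; rfl)
  haveI := Fintype.ofFinite K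
  have h := Equiv.Perm.card_fixedPoints_modEq hf
  rw [← Nat.card_eq_fintype_card, ← Nat.card_eq_fintype_card] at h
  refine h.trans ?_
  suffices e : Nat.card (Function.fixedPoints f) = 1 by rw [e]
  rw [Nat.card_eq_one_iff_unique]
  refine ⟨⟨fun a b => ?_⟩, ⟨⟨0, Subtype.ext (map_zero x)⟩⟩⟩
  have h0 : ∀ c : Function.fixedPoints f, ((c : K) : V) = 0 := fun c =>
    hfix _ (c : K).2 (congrArg (fun w : K => (w : V)) c.2)
  exact Subtype.ext (Subtype.ext ((h0 a).trans (h0 b).symm))

theorem card_pow (K : Submodule (ZMod 2) V) : Nat.card K = 2 ^ Module.finrank (ZMod 2) K := by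
  rw [Module.natCard_eq_pow_finrank (K := ZMod 2) (V := K), Nat.card_eq_fintype_card, ZMod.card]

/-- A subspace with fixed-point-free maps of orders three and seven has dimension a multiple of six. -/
theorem six_dvd (K : Submodule (ZMod 2) V) (a y : Module.End (ZMod 2) V) (ha : a ^ 3 = 1) (hy : y ^ 7 = 1)
    (haK : ∀ v ∈ K, a v ∈ K) (hyK : ∀ v ∈ K, y v ∈ K) (haf : ∀ v ∈ K, a v = v → v = 0)
    (hyf : ∀ v ∈ K, y v = v → v = 0) : 6 ∣ Module.finrank (ZMod 2) K := by
  haveI : Fact (Nat.Prime 3) := ⟨Nat.prime_three⟩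
  haveI : Fact (Nat.Prime 7) := ⟨by norm_num⟩
  have h3 := card_mod K a ha haK haf
  have h7 := card_mod K y hy hyK hyf
  rw [card_pow] at h3 h7
  generalize Module.finrank (ZMod 2) K = k at *
  have e : 2 ^ k % 3 = 2 ^ (k % 6) % 3 ∧ 2 ^ k % 7 = 2 ^ (k % 6) % 7 := by
    constructor <;>
    · conv_lhs => rw [← Nat.div_add_mod k 6, pow_add, pow_mul, Nat.mul_mod, Nat.pow_mod]
      norm_num
  unfold Nat.ModEq at h3 h7
  rw [e.1] at h3
  rw [e.2] at h7
  have hk : k % 6 < 6 := Nat.mod_lt _ (by norm_num)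
  have : k % 6 = 0 := by interval_cases hh : k % 6 <;> simp_all
  omega

/-- A subspace with a fixed-point-free map of order eleven has dimension a multiple of ten. -/
theorem ten_dvd (K : Submodule (ZMod 2) V) (x : Module.End (ZMod 2) V) (hx : x ^ 11 = 1)
    (hK : ∀ v ∈ K, x v ∈ K) (hf : ∀ v ∈ K, x v = v → v = 0) : 10 ∣ Module.finrank (ZMod 2) K := by
  haveI : Fact (Nat.Prime 11) := ⟨by norm_num⟩
  have h := card_mod K x hx hK hf
  rw [card_pow] at h
  generalize Module.finrank (ZMod 2) K = k at *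
  have e : 2 ^ k % 11 = 2 ^ (k % 10) % 11 := by
    conv_lhs => rw [← Nat.div_add_mod k 10, pow_add, pow_mul, Nat.mul_mod, Nat.pow_mod]
    norm_num
  unfold Nat.ModEq at h
  rw [e] at h
  have hk : k % 10 < 10 := Nat.mod_lt _ (by norm_num)
  have : k % 10 = 0 := by interval_cases hh : k % 10 <;> simp_all
  omega

/-- The joint kernel of two maps. -/
def ker2 (e p : Module.End (ZMod 2) V) : Submodule (ZMod 2) V :=
  LinearMap.ker (e - 1) ⊓ LinearMap.ker p

omit [Finite V] in
theorem mem_ker2 {e p : Module.End (ZMod 2) V} {v : V} : v ∈ ker2 e p ↔ e v = v ∧ p v = 0 := by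
  simp [ker2, sub_eq_zero]

omit [Finite V] in
theorem ker2_map {e p x : Module.End (ZMod 2) V} (he : x * e = e * x) (hp : x * p = p * x) :
    ∀ v ∈ ker2 e p, x v ∈ ker2 e p := fun v hv => by
  obtain ⟨h1, h2⟩ := mem_ker2.1 hv
  refine mem_ker2.2 ⟨?_, ?_⟩
  · rw [← Module.End.mul_apply, ← he, Module.End.mul_apply, h1]
  · rw [← Module.End.mul_apply, ← hp, Module.End.mul_apply, h2, map_zero]

/-- Order seven beside an isometry of order three with a fixed vector. -/
theorem seven_trivial (B : LinearMap.BilinForm (ZMod 2) V) (hnd : ∀ u, (∀ v, B u v = 0) → u = 0)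
    (hV : Module.finrank (ZMod 2) V = 12) {a y : Module.End (ZMod 2) V} (ha : a ^ 3 = 1) (hy : y ^ 7 = 1)
    (hay : a * y = y * a) (hBa : ∀ u v, B (a u) (a v) = B u v) (hBy : ∀ u v, B (y u) (y v) = B u v)
    {u₀ : V} (hu : u₀ ≠ 0) (hau : a u₀ = u₀) : (a + a ^ 2) * y = a + a ^ 2 := by
  classical
  haveI : Module.Finite (ZMod 2) V := Module.Finite.of_finite
  obtain ⟨i1, i2, i3, i4, i5, i6⟩ := seven_ring (two_eq_adjoin y)
    (y := ⟨y, Algebra.subset_adjoin (Set.mem_singleton y)⟩) (Subtype.ext hy)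
  replace i1 := congrArg Subtype.val i1
  replace i2 := congrArg Subtype.val i2
  replace i3 := congrArg Subtype.val i3
  replace i4 := congrArg Subtype.val i4
  replace i5 := congrArg Subtype.val i5
  replace i6 := congrArg Subtype.val i6
  simp only [Subalgebra.coe_add, Subalgebra.coe_mul, Subalgebra.coe_pow, Subalgebra.coe_one,
    Subalgebra.coe_zero] at i1 i2 i3 i4 i5 i6
  set ey := y + y ^ 2 + y ^ 3 + y ^ 4 + y ^ 5 + y ^ 6 with hey
  set f := y ^ 3 + y + 1 with hf
  set g := y ^ 3 + y ^ 2 + 1 with hg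
  set ea := a + a ^ 2 with hea
  set e := ea * ey with he
  have cy : ∀ n : ℕ, Commute a (y ^ n) := fun n => (show Commute a y from hay).pow_right n
  have cay : Commute a ey := (((((show Commute a y from hay).add_right (cy 2)).add_right (cy 3)).add_right
    (cy 4)).add_right (cy 5)).add_right (cy 6)
  have caf : Commute a f := ((cy 3).add_right hay).add_right (Commute.one_right a)
  have cag : Commute a g := ((cy 3).add_right (cy 2)).add_right (Commute.one_right a)
  have cea : Commute a ea := (Commute.refl a).add_right (Commute.pow_self a 2).symm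
  have hceay : Commute ea ey := cay.add_left (cay.pow_left 2)
  have cyy : ∀ n : ℕ, Commute y (y ^ n) := fun n => (Commute.refl y).pow_right n
  have cye : Commute y ey := (((((Commute.refl y).add_right (cyy 2)).add_right (cyy 3)).add_right
    (cyy 4)).add_right (cyy 5)).add_right (cyy 6)
  have cyf : Commute y f := ((cyy 3).add_right (Commute.refl y)).add_right (Commute.one_right y)
  have cyg : Commute y g := ((cyy 3).add_right (cyy 2)).add_right (Commute.one_right y)
  have cyea : Commute y ea := ((show Commute a y from hay).add_left ((show Commute a y from hay).pow_left 2)).symm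
  have hee : ea * ea = ea := by
    rw [hea, pow_two, mul_add, add_mul, add_mul]
    simp only [← mul_assoc]
    rw [show a * a * a = 1 by rw [← pow_three', ha], one_mul]
    rw [show a * a + 1 + (1 + a) = a + a * a + (1 + 1) by abel, one_add_one_eq_two, two_eq, add_zero]
  have hidem : e * e = e := by
    rw [he, mul_assoc, ← mul_assoc ey, ← hceay.eq, mul_assoc ea ey ey, i1, ← mul_assoc, hee]
  have cae : Commute a e := cea.mul_right cay
  have cye' : Commute y e := cyea.mul_right cye
  have caeq : a * e = e * a := cae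
  have cyeq : y * e = e * y := cye'
  -- fixed points in the image
  have hfa : ∀ v, e v = v → a v = v → v = 0 := fun v hev hav => by
    have h1 : ea v = 0 := by
      rw [hea, pow_two, LinearMap.add_apply, Module.End.mul_apply, hav, hav]
      exact ZModModule.add_self v
    rw [← hev, he, hceay.eq, Module.End.mul_apply, h1, map_zero]
  have hfy : ∀ v, e v = v → y v = v → v = 0 := fun v hev hyv => by
    have hp : ∀ n : ℕ, (y ^ n) v = v := fun n => by
      induction n with
      | zero => rfl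
      | succ n ih => rw [pow_succ, Module.End.mul_apply, hyv, ih]
    have h1 : ey v = 0 := by
      simp only [hey, LinearMap.add_apply, hp, hyv]
      simp [ZModModule.add_self]
    rw [← hev, he, Module.End.mul_apply, h1, map_zero]
  have hfe : f * g * e = 0 := by
    have hc : Commute (f * g) ea := (cyea.pow_left 3 |>.add_left cyea |>.add_left (Commute.one_left ea)).mul_left
      (cyea.pow_left 3 |>.add_left (cyea.pow_left 2) |>.add_left (Commute.one_left ea))
    rw [he, ← mul_assoc, hc.eq, mul_assoc, i2, mul_zero]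
  have h6f := six_dvd (ker2 e f) a y ha hy (ker2_map caeq caf) (ker2_map cyeq cyf)
    (fun v hv => hfa v (mem_ker2.1 hv).1) (fun v hv => hfy v (mem_ker2.1 hv).1)
  have h6g := six_dvd (ker2 e g) a y ha hy (ker2_map caeq cag) (ker2_map cyeq cyg)
    (fun v hv => hfa v (mem_ker2.1 hv).1) (fun v hv => hfy v (mem_ker2.1 hv).1)
  -- the two kernels are independent and miss the fixed vector
  have hdisj : ker2 e f ⊓ ker2 e g = ⊥ := by
    rw [eq_bot_iff]
    rintro v ⟨hvf, hvg⟩
    rw [Submodule.mem_bot, ← Module.End.one_apply (R := ZMod 2) v, ← i3, LinearMap.add_apply, Module.End.mul_apply,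
      Module.End.mul_apply, (mem_ker2.1 hvf).2, (mem_ker2.1 hvg).2, map_zero, map_zero, add_zero]
  have hne : ker2 e f ⊔ ker2 e g ≠ ⊤ := fun htop => by
    have hu0 : e u₀ = 0 := by
      rw [he, hceay.eq, Module.End.mul_apply]
      rw [show ea u₀ = 0 by
        rw [hea, pow_two, LinearMap.add_apply, Module.End.mul_apply, hau, hau, ZModModule.add_self], map_zero]
    have hm : u₀ ∈ LinearMap.ker (e - 1) :=
      (sup_le inf_le_left inf_le_left : ker2 e f ⊔ ker2 e g ≤ _) (htop ▸ Submodule.mem_top)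
    rw [LinearMap.mem_ker, LinearMap.sub_apply, hu0, Module.End.one_apply, zero_sub, neg_eq_zero] at hm
    exact hu hm
  have hlt := Submodule.finrank_lt hne
  have hsum := Submodule.finrank_sup_add_finrank_inf_eq (ker2 e f) (ker2 e g)
  rw [hdisj, finrank_bot, add_zero] at hsum
  -- adjoints
  have Ay : Adj B y (y ^ 6) := Adj.of_isometry hBy (by rw [← pow_succ']; exact hy)
  have Aa : Adj B a (a ^ 2) := Adj.of_isometry hBa (by rw [← pow_succ']; exact ha)
  have hadj : ∀ {k : ℕ}, k ≤ 7 → Adj B (y ^ k) (y ^ (7 - k)) := fun {k} hk => by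
    have e' : (y ^ 6) ^ k = y ^ (7 - k) := by
      rw [← pow_mul, pow_eq_pow_mod (6 * k) hy, pow_eq_pow_mod (7 - k) hy]
      congr 1
      omega
    rw [← e']
    exact Ay.pow k
  have Aey : Adj B ey ey := by
    have h := (((((hadj (k := 1) (by norm_num)).add (hadj (k := 2) (by norm_num))).add
      (hadj (k := 3) (by norm_num))).add (hadj (k := 4) (by norm_num))).add (hadj (k := 5) (by norm_num))).add
      (hadj (k := 6) (by norm_num))
    have e' : y ^ (7 - 1) + y ^ (7 - 2) + y ^ (7 - 3) + y ^ (7 - 4) + y ^ (7 - 5) + y ^ (7 - 6) = ey := by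
      rw [hey]; norm_num; abel
    rwa [e', pow_one, ← hey] at h
  have Aea : Adj B ea ea := by
    have h := Aa.add (Aa.pow 2)
    have e' : a ^ 2 + (a ^ 2) ^ 2 = ea := by
      rw [← pow_mul, hea, pow_eq_pow_mod (2 * 2) ha]
      norm_num
      abel
    rwa [e', ← hea] at h
  have Ae : Adj B e e := by
    have h := Aea.mul Aey
    rwa [← hceay.eq, ← he] at h
  have Af : Adj B f (y ^ 4 * g) := by
    have h := ((Ay.pow 3).add Ay).add (Adj.one (B := B))
    rwa [i5, ← hf] at h
  have Ag : Adj B g (y ^ 4 * f) := by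
    have h := ((Ay.pow 3).add (Ay.pow 2)).add (Adj.one (B := B))
    rwa [i4, ← hg] at h
  have cfe : Commute f e := ((cye'.pow_left 3).add_left cye').add_left (Commute.one_left e)
  have cge : Commute g e := ((cye'.pow_left 3).add_left (cye'.pow_left 2)).add_left (Commute.one_left e)
  -- one of the kernels fills the image, so the image is totally isotropic
  have key : ∀ (h k c d d' : Module.End (ZMod 2) V), Commute h e → k * h * e = 0 → d * h + d' * k = 1 →
      d' * k = k * d' → Adj B k (c * h) → ker2 e k = ⊥ → e = 0 := by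
    intro h k c d d' hhe hkhe hbez hdk hk hbot
    have hh0 : ∀ v, e v = v → h v = 0 := fun v hev => by
      rw [← Submodule.mem_bot (R := ZMod 2), ← hbot, mem_ker2]
      refine ⟨by rw [← Module.End.mul_apply, ← hhe.eq, Module.End.mul_apply, hev], ?_⟩
      rw [← hev, ← Module.End.mul_apply, ← Module.End.mul_apply, hkhe, LinearMap.zero_apply]
    have hin : ∀ v w, e v = v → e w = w → B v w = 0 := fun v w hev hew => by
      rw [← Module.End.one_apply (R := ZMod 2) v, ← hbez, LinearMap.add_apply, Module.End.mul_apply, hh0 v hev,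
        map_zero, zero_add, hdk, Module.End.mul_apply, hk, Module.End.mul_apply, hh0 w hew, map_zero, map_zero]
    refine LinearMap.ext fun u => hnd _ fun v => ?_
    have hee' : ∀ w, e (e w) = e w := fun w => by rw [← Module.End.mul_apply, hidem]
    rw [← hee' u, Ae]
    exact hin _ _ (hee' u) (hee' v)
  have he0 : e = 0 := by
    rcases Nat.eq_zero_or_pos (Module.finrank (ZMod 2) (ker2 e g)) with h0 | h0
    · refine key f g (y ^ 4) y (y + 1) cfe ?_ i3 ?_ Ag (Submodule.finrank_eq_zero.1 h0)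
      · rw [show g * f = f * g from (((cyf.pow_left 3).add_left (cyf.pow_left 2)).add_left (Commute.one_left f)).eq, hfe]
      · exact (cyg.add_left (Commute.one_left g)).eq
    · refine key g f (y ^ 4) (y + 1) y cge ?_ (by rw [add_comm, i3]) cyf.eq Af (Submodule.finrank_eq_zero.1 ?_)
      · rw [← mul_assoc] at hfe ⊢; exact hfe
      · have := Nat.le_of_dvd h0 h6g
        obtain ⟨m, hm⟩ := h6f
        rw [hm] at hsum ⊢
        omega
  calc ea * y = ea * (ey + 1) * y := by rw [mul_add, mul_one, ← he, he0, zero_add]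
    _ = ea * (ey + 1) := by rw [mul_assoc, i6]
    _ = ea := by rw [mul_add, mul_one, ← he, he0, zero_add]

/-- An element of order eleven is not inverted. -/
theorem eleven_trivial (hV : Module.finrank (ZMod 2) V = 12) {a x t : Module.End (ZMod 2) V}
    (ha : a * a + a + 1 = 0) (hx : x ^ 11 = 1) (hax : a * x = x * a) (hta : t * a = a * t)
    (ht : t * x = x ^ 10 * t) (hti : Function.Injective t) : x = 1 := by
  classical
  haveI : Module.Finite (ZMod 2) V := Module.Finite.of_finite
  obtain ⟨j1, j2⟩ := eleven_ring (two_eq_adjoin x)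
    (y := ⟨x, Algebra.subset_adjoin (Set.mem_singleton x)⟩) (Subtype.ext hx)
  replace j1 := congrArg Subtype.val j1
  replace j2 := congrArg Subtype.val j2
  simp only [Subalgebra.coe_add, Subalgebra.coe_mul, Subalgebra.coe_pow] at j1 j2
  set e := x + x ^ 2 + x ^ 3 + x ^ 4 + x ^ 5 + x ^ 6 + x ^ 7 + x ^ 8 + x ^ 9 + x ^ 10 with he
  set η := x + x ^ 3 + x ^ 4 + x ^ 5 + x ^ 9 with hη
  -- commutation
  have cpow : ∀ n, Commute a (x ^ n) := fun n => (show Commute a x from hax).pow_right n
  have cae : Commute a e := by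
    rw [he]; exact (((((((((show Commute a x from hax).add_right (cpow 2)).add_right (cpow 3)).add_right
      (cpow 4)).add_right (cpow 5)).add_right (cpow 6)).add_right (cpow 7)).add_right (cpow 8)).add_right
      (cpow 9)).add_right (cpow 10)
  have caη : Commute a η := by
    rw [hη]; exact ((((show Commute a x from hax).add_right (cpow 3)).add_right (cpow 4)).add_right
      (cpow 5)).add_right (cpow 9)
  have cxx : ∀ n, Commute x (x ^ n) := fun n => (Commute.refl x).pow_right n
  have cxe : Commute x e := by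
    rw [he]; exact (((((((((Commute.refl x).add_right (cxx 2)).add_right (cxx 3)).add_right
      (cxx 4)).add_right (cxx 5)).add_right (cxx 6)).add_right (cxx 7)).add_right (cxx 8)).add_right
      (cxx 9)).add_right (cxx 10)
  have cxη : Commute x η := by
    rw [hη]; exact ((((Commute.refl x).add_right (cxx 3)).add_right (cxx 4)).add_right
      (cxx 5)).add_right (cxx 9)
  have ceη : Commute e η := by
    rw [hη]
    exact ((((cxe.symm).add_right (cxe.symm.pow_right 3)).add_right (cxe.symm.pow_right 4)).add_right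
      (cxe.symm.pow_right 5)).add_right (cxe.symm.pow_right 9)
  have hs : ∀ n, SemiconjBy t (x ^ n) (x ^ (10 * n % 11)) := fun n => by
    have h := (show SemiconjBy t x (x ^ 10) from ht).pow_right n
    rwa [← pow_mul, pow_eq_pow_mod (10 * n) hx] at h
  have hs1 : SemiconjBy t x (x ^ 10) := ht
  have tη : SemiconjBy t η (η * η) := by
    have h := (((hs1.add_right (hs 3)).add_right (hs 4)).add_right (hs 5)).add_right (hs 9)
    norm_num at h
    rw [← hη] at h
    have e' : x ^ 10 + x ^ 8 + x ^ 7 + x ^ 6 + x ^ 2 = η * η := by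
      have : η * η = e + η := by
        rw [← j2, add_assoc, ZModModule.add_self, add_zero]
      rw [this, he, hη]
      have hd : ∀ u : Module.End (ZMod 2) V, u + u = 0 := ZModModule.add_self
      linear_combination (norm := abel_nf) (-1 : ℤ) • hd x + (-1 : ℤ) • hd (x ^ 3) + (-1 : ℤ) • hd (x ^ 4) +
        (-1 : ℤ) • hd (x ^ 5) + (-1 : ℤ) • hd (x ^ 9)
    rwa [e'] at h
  have te : SemiconjBy t e e := by
    have h := ((((((((hs1.add_right (hs 2)).add_right (hs 3)).add_right (hs 4)).add_right (hs 5)).add_right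
      (hs 6)).add_right (hs 7)).add_right (hs 8)).add_right (hs 9)).add_right (hs 10)
    norm_num at h
    rw [← he] at h
    have e' : x ^ 10 + x ^ 9 + x ^ 8 + x ^ 7 + x ^ 6 + x ^ 5 + x ^ 4 + x ^ 3 + x ^ 2 + x = e := by
      rw [he]; abel
    rwa [e'] at h
  -- fixed points
  have hfx : ∀ v, e v = v → x v = v → v = 0 := fun v hev hxv => by
    have hp : ∀ n : ℕ, (x ^ n) v = v := fun n => by
      induction n with
      | zero => rfl
      | succ n ih => rw [pow_succ, Module.End.mul_apply, hxv, ih]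
    rw [← hev, he]
    simp only [LinearMap.add_apply, hp, hxv]
    simp [ZModModule.add_self]
  have hq : ∀ v, e v = v → (a + η) ((a + η + 1) v) = 0 := fun v hev => by
    have h1 : (a + η) * (a + η + 1) = (a * a + a + 1) + (η * η + η) + 1 := by
      have e2 : η * a + a * η = 0 := by rw [caη.eq, ZModModule.add_self]
      calc (a + η) * (a + η + 1) = (a * a + a + 1) + (η * η + η) + 1 + (η * a + a * η) + (-(1 + 1)) := by
            noncomm_ring
        _ = _ := by rw [e2, ZModModule.add_self (1 : Module.End (ZMod 2) V), neg_zero, add_zero, add_zero]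
    rw [← Module.End.mul_apply, h1, ha, j2, zero_add, LinearMap.add_apply, Module.End.one_apply, hev,
      ZModModule.add_self]
  set K1 := ker2 e (a + η)
  set K2 := ker2 e (a + η + 1)
  have cp1 : Commute x (a + η) := (show Commute a x from hax).symm.add_right cxη
  have cp2 : Commute x (a + η + 1) := cp1.add_right (Commute.one_right x)
  have h10 := ten_dvd K1 x hx (ker2_map cxe.eq cp1.eq) fun v hv => hfx v (mem_ker2.1 hv).1
  have h10' := ten_dvd K2 x hx (ker2_map cxe.eq cp2.eq) fun v hv => hfx v (mem_ker2.1 hv).1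
  -- the map exchanges the kernels
  have tsw : ∀ v, e v = v → e (t v) = t v ∧ t ((a + η) v) = (a + η + 1) (t v) ∧
      t ((a + η + 1) v) = (a + η) (t v) := fun v hev => by
    have he1 : e (t v) = t v := by rw [← Module.End.mul_apply, ← te.eq, Module.End.mul_apply, hev]
    have hη2 : (η * η) (t v) = η (t v) + t v := by
      have := congrArg (fun q : Module.End (ZMod 2) V => q (t v)) j2
      simp only [LinearMap.add_apply, he1] at this
      rw [← sub_eq_iff_eq_add'.2 (this.symm.trans (add_comm _ _)), ZModModule.sub_eq_add, add_comm]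
    have hta' : t (a v) = a (t v) := by rw [← Module.End.mul_apply, hta, Module.End.mul_apply]
    have htη : t (η v) = η (t v) + t v := by
      rw [← hη2, ← Module.End.mul_apply, tη.eq, Module.End.mul_apply]
    refine ⟨he1, ?_, ?_⟩
    · simp only [LinearMap.add_apply, map_add, hta', htη, Module.End.one_apply, add_assoc]
    · simp only [LinearMap.add_apply, map_add, hta', htη, Module.End.one_apply, add_assoc]
      rw [ZModModule.add_self, add_zero]
  have hle : ∀ {K K' : Submodule (ZMod 2) V}, (∀ v ∈ K, t v ∈ K') →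
      Module.finrank (ZMod 2) K ≤ Module.finrank (ZMod 2) K' := fun {K K'} h =>
    LinearMap.finrank_le_finrank_of_injective (f := t.restrict h) fun u v huv =>
      Subtype.ext (hti (congrArg Subtype.val huv))
  have h12 : Module.finrank (ZMod 2) K1 = Module.finrank (ZMod 2) K2 := by
    refine le_antisymm (hle fun v hv => ?_) (hle fun v hv => ?_) <;>
    · obtain ⟨hv1, hv2⟩ := mem_ker2.1 hv
      obtain ⟨s1, s2, s3⟩ := tsw v hv1
      refine mem_ker2.2 ⟨s1, ?_⟩
      first
        | rw [← s2, hv2, map_zero]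
        | rw [← s3, hv2, map_zero]
  have hdisj : K1 ⊓ K2 = ⊥ := by
    rw [eq_bot_iff]
    rintro v ⟨h1, h2⟩
    have e2 := (mem_ker2.1 h2).2
    rw [LinearMap.add_apply, (mem_ker2.1 h1).2, zero_add, Module.End.one_apply] at e2
    exact e2
  have hsum := Submodule.finrank_sup_add_finrank_inf_eq K1 K2
  rw [hdisj, finrank_bot, add_zero] at hsum
  have h0 : Module.finrank (ZMod 2) K1 = 0 := by
    have := Submodule.finrank_le (K1 ⊔ K2)
    obtain ⟨m, hm⟩ := h10
    omega
  have he0 : e = 0 := by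
    refine LinearMap.ext fun u => ?_
    have hev : e (e u) = e u := by rw [← Module.End.mul_apply, j1]
    have hb1 : K1 = ⊥ := Submodule.finrank_eq_zero.1 h0
    have hb2 : K2 = ⊥ := Submodule.finrank_eq_zero.1 (h12 ▸ h0)
    have cpe : ∀ w, e ((a + η + 1) w) = (a + η + 1) (e w) := fun w => by
      rw [← Module.End.mul_apply, ((cae.symm.add_right ceη).add_right (Commute.one_right e)).eq,
        Module.End.mul_apply]
    have h1 : (a + η + 1) (e u) ∈ K1 := mem_ker2.2 ⟨by rw [cpe, hev], hq _ hev⟩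
    rw [hb1, Submodule.mem_bot] at h1
    have h2 : e u ∈ K2 := mem_ker2.2 ⟨hev, h1⟩
    rw [hb2, Submodule.mem_bot] at h2
    exact h2
  have h1 : (e + 1) * x = e + 1 := by
    have : x ^ 10 * x = 1 := by rw [← pow_succ]; exact hx
    rw [he, add_mul, add_mul, add_mul, add_mul, add_mul, add_mul, add_mul, add_mul, add_mul, add_mul, one_mul,
      ← pow_two x, ← pow_succ, ← pow_succ, ← pow_succ, ← pow_succ, ← pow_succ, ← pow_succ, ← pow_succ, ← pow_succ,
      this]
    abel
  rwa [he0, zero_add, one_mul] at h1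

end Cfsg.Agent.Spor.JFour.Bridge
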