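import Cfsg.Agent.Lib.Spor.JFourType.Bridge.Core
import Cfsg.Agent.Lib.Grp.LargeExtraImage

/-!
From the chain of normal subgroups of the centraliser of an involution to the Janko-four type.
-/

set_option autoImplicit false
set_option linter.style.haveILetI false

open scoped commutatorElement
open Cfsg

namespace Cfsg.Agent.Spor.JFour.Bridge

variable {G : Type*} [Group G] [Finite G]

/-- The hypotheses on the centraliser give the Janko-four type and the order of the centraliser. -/
theorem isOfType {t : G} {C : Subgroup G} (hC : C = Subgroup.centralizer ({t} : Set G)) (htC : t ∈ C)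
    {Q N M : Subgroup ↥C} (h : Hyp ⟨t, htC⟩ Q N M) :
    IsOfJankoFourTypeAt t ∧ Nat.card ↥(Subgroup.centralizer ({t} : Set G)) = 21799895040 := by
  classical
  obtain ⟨p, hpN, hp3, hfix, ⟨g, hgn, hgc⟩, hder⟩ := h.main
  obtain ⟨hNn, ⟨eA⟩⟩ := h.exists_aut
  have hcore : twoCoreOfCentralizer t = Q.map C.subtype := by
    rw [← h.pCore_eq]
    subst hC
    rfl
  have hinj : Function.Injective C.subtype := Subtype.val_injective
  have ht : orderOf t = 2 := by
    rw [← h.ord]; exact orderOf_injective C.subtype hinj (⟨t, htC⟩ : C)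
  have hcard : Nat.card ↥(Q.map C.subtype) = 2 ^ 13 := by
    rw [Subgroup.card_map_of_injective hinj, h.cardQ]
  have hsub : (N.map C.subtype).subgroupOf C = N := Subgroup.comap_map_eq_self_of_injective hinj N
  have hP : (Subgroup.zpowers p).map C.subtype = Subgroup.zpowers (p : G) := MonoidHom.map_zpowers _ _
  have hcent : ∀ c : C, (c : G) ∈ Subgroup.centralizer (((Subgroup.zpowers p).map C.subtype : Subgroup G) : Set G) ↔
      c ∈ Subgroup.centralizer ({p} : Set C) := fun c => by
    rw [hP, Subgroup.zpowers_eq_closure, Subgroup.centralizer_closure, Subgroup.mem_centralizer_singleton_iff,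
      Subgroup.mem_centralizer_singleton_iff]
    exact ⟨fun e => Subtype.ext e, fun e => congrArg Subtype.val e⟩
  have hCP : C ⊓ Subgroup.centralizer (((Subgroup.zpowers p).map C.subtype : Subgroup G) : Set G) =
      (Subgroup.centralizer ({p} : Set C)).map C.subtype := by
    ext x
    constructor
    · rintro ⟨hx, hx'⟩
      exact ⟨⟨x, hx⟩, (hcent ⟨x, hx⟩).1 hx', rfl⟩
    · rintro ⟨c, hc, rfl⟩
      exact ⟨c.2, (hcent c).2 hc⟩
  unfold IsOfJankoFourTypeAt IsOfJankoFourTypeWith
  simp only [← hC]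
  refine ⟨⟨(Subgroup.zpowers p).map C.subtype, ht, ?_, ?_, ?_, ?_, ?_, ?_, ?_, ?_⟩, ?_⟩
  · rw [hcore]
    exact Cfsg.Agent.Grp.ExtraCentSimple.isExtraspecial_equiv (Q.equivMapOfInjective C.subtype hinj) h.ext
  · rw [hcore, hcard]
  · rw [hcore]
    rintro x ⟨hx, hx'⟩
    refine ⟨⟨x, hx⟩, h.self (Subgroup.mem_centralizer_iff.2 fun q hq => Subtype.ext ?_), rfl⟩
    exact Subgroup.mem_centralizer_iff.1 hx' q ⟨q, hq, rfl⟩
  · refine ⟨N.map C.subtype, ?_, Subgroup.map_subtype_le _, fun c hc => ?_, ?_, ?_, Subgroup.map_mono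
      (Subgroup.zpowers_le.2 hpN)⟩
    · rw [hcore]; exact Subgroup.map_mono h.QN
    · haveI := h.Nn
      have hmem : ∀ c : C, ∀ y ∈ N.map C.subtype, (c : G) * y * (c : G)⁻¹ ∈ N.map C.subtype := by
        rintro c _ ⟨n, hn, rfl⟩
        exact ⟨c * n * c⁻¹, Subgroup.Normal.conj_mem inferInstance n hn c, rfl⟩
      refine Subgroup.mem_normalizer_iff.2 fun y => ⟨fun hy => hmem ⟨c, hc⟩ y hy, fun hy => ?_⟩
      have := hmem ⟨c, hc⟩⁻¹ _ hy
      simpa [mul_assoc] using this
    · rw [hcore, hcard, Subgroup.card_map_of_injective hinj, h.cardN]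
    · haveI := hNn
      haveI hn' : ((N.map C.subtype).subgroupOf C).Normal := hsub.symm ▸ hNn
      subst hC
      exact ⟨hn', ⟨(QuotientGroup.quotientMulEquivOfEq hsub).trans eA⟩⟩
  · rw [Subgroup.card_map_of_injective hinj, Nat.card_zpowers, hp3]
  · rw [hcore]
    refine le_antisymm ?_ (Subgroup.zpowers_le.2 ⟨⟨_, h.z_mem, rfl⟩, (hcent ⟨t, htC⟩).2 ?_⟩)
    · rintro _ ⟨⟨q, hq, rfl⟩, hq'⟩
      have hc := (hcent q).1 hq'
      rw [Subgroup.mem_centralizer_singleton_iff] at hc
      rcases hfix q hq hc.symm with rfl | rfl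
      · exact one_mem _
      · exact Subgroup.mem_zpowers t
    · exact Subgroup.mem_centralizer_singleton_iff.2 (h.cen p).symm
  · intro heq
    refine hgc (Subgroup.mem_centralizer_singleton_iff.1 ((hcent g).1 ?_))
    have hg : (g : G) ∈ C ⊓ Subgroup.normalizer (((Subgroup.zpowers p).map C.subtype : Subgroup G) : Set G) := by
      refine ⟨g.2, ?_⟩
      rw [hP]
      refine Subgroup.mem_normalizer_iff.2 fun y => ?_
      have hle : (Subgroup.zpowers (p : G)).map (MulAut.conj (g : G)).toMonoidHom ≤ Subgroup.zpowers (p : G) := by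
        rw [MonoidHom.map_zpowers, Subgroup.zpowers_le, ← hP]
        exact ⟨_, hgn, rfl⟩
      have he := Subgroup.eq_of_le_of_card_ge hle
        (le_of_eq (Subgroup.card_map_of_injective (MulAut.conj (g : G)).injective).symm)
      conv_rhs => rw [← he]
      exact (Subgroup.mem_map_iff_mem (f := (MulAut.conj (g : G)).toMonoidHom) (MulAut.conj (g : G)).injective).symm
    rw [heq] at hg
    exact hg.2
  · rw [hCP, ← Subgroup.map_commutator]
    exact Subgroup.zpowers_le.2 (Subgroup.mem_map_of_mem C.subtype hder) |>.trans' (le_of_eq hP)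
  · have h1 := M.card_mul_index
    rw [h.idx, h.card_M, h.cardN] at h1
    rw [← h1]
    try norm_num

end Cfsg.Agent.Spor.JFour.Bridge
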