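import Cfsg.Agent.Lib.Spor.JFourType.Mathieu.DuadStab

/-!
An element of order eleven of the Mathieu group on 22 points inverted by an automorphism, and the order of the
automorphism group.
-/

set_option autoImplicit false
set_option maxRecDepth 100000
set_option linter.style.haveILetI false

open Cfsg Cfsg.Agent.Spor.Golay

namespace Cfsg.Agent.Spor.JFour.Bridge

theorem word_check :
    (let x := wordP [8, 3, 0]; let g := comp (pk 9) (wordP [1, 6, 4, 4, 7, 0]);
      (comp x (comp x (comp x (comp x (comp x (comp x (comp x (comp x (comp x (comp x x))))))))) == idP) &&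
      (comp x (comp g x) == g) && !(get x 1 == 1)) = true := by
  decide +kernel

theorem card_aut : Nat.card (MulAut ↥Cfsg.Spor.M22) = 887040 := by
  haveI := simple_M22
  have hconj : Function.Injective (MulAut.conj : ↥Cfsg.Spor.M22 →* MulAut ↥Cfsg.Spor.M22) :=
    (injective_iff_map_eq_one _).2 fun a ha => Subtype.ext (Setting.M22_center a.2 fun x hx => by
      have := congrArg (fun b : MulAut _ => ((b ⟨x, hx⟩ : ↥Cfsg.Spor.M22) : Equiv.Perm GolayPt)) ha
      exact (mul_inv_eq_iff_eq_mul.1 this).symm)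
  have hI : (Inn ↥Cfsg.Spor.M22).index = 2 := S2062.result
  rw [← (Inn ↥Cfsg.Spor.M22).card_mul_index, hI,
    show Nat.card ↥(Inn ↥Cfsg.Spor.M22) = Nat.card ↥Cfsg.Spor.M22 from
      (Nat.card_congr (Equiv.ofInjective _ hconj)).symm, Fus.Mathieu.card22]

/-- An element of order eleven and an automorphism inverting it. -/
theorem exists_inverted : ∃ (w g : MulAut ↥Cfsg.Spor.M22), w ≠ 1 ∧ w ^ 11 = 1 ∧ g * w * g⁻¹ = w⁻¹ := by
  have hmem : ∀ l : List ℕ, (∀ k ∈ l, k < 9) → permOf (wordP l) ∈ Cfsg.Spor.M22 := fun l hl => by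
    rw [← wordπ_eq]
    refine list_prod_mem fun a ha => ?_
    obtain ⟨k, hk, rfl⟩ := List.mem_map.1 ha
    exact pk_mem (hl k hk)
  obtain ⟨x, hx⟩ : ∃ x, x = wordP [8, 3, 0] := ⟨_, rfl⟩
  have hxv : valid x = true := hx ▸ wordP_valid _
  have hwv : valid (wordP [1, 6, 4, 4, 7, 0]) = true := wordP_valid _
  have hgv : valid (comp (pk 9) (wordP [1, 6, 4, 4, 7, 0])) = true := valid_comp (pk_valid 9) hwv
  have hc := word_check
  simp only [Bool.and_eq_true, Bool.not_eq_true', beq_iff_eq, beq_eq_false_iff_ne, ← hx] at hc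
  obtain ⟨⟨h11, hinv⟩, hne⟩ := hc
  have hxm : permOf x ∈ Cfsg.Spor.M22 := hx ▸ hmem _ (by decide)
  have e11 : permOf x ^ 11 = 1 := by
    have h : ∀ {P : ℕ}, valid P = true → permOf (comp x P) = permOf x * permOf P := fun hP => permOf_comp hxv hP
    have v := fun {P : ℕ} (hP : valid P = true) => valid_comp hxv hP
    rw [← permOf_idP, ← h11, h (v (v (v (v (v (v (v (v (v hxv))))))))),
      h (v (v (v (v (v (v (v (v hxv)))))))), h (v (v (v (v (v (v (v hxv))))))), h (v (v (v (v (v (v hxv)))))),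
      h (v (v (v (v (v hxv))))), h (v (v (v (v hxv)))), h (v (v (v hxv))), h (v (v hxv)), h (v hxv), h hxv]
    simp only [pow_succ', pow_zero, mul_one]
  have hgx : permOf (comp (pk 9) (wordP [1, 6, 4, 4, 7, 0])) * permOf x *
      (permOf (comp (pk 9) (wordP [1, 6, 4, 4, 7, 0])))⁻¹ = (permOf x)⁻¹ := by
    have h := congrArg permOf hinv
    rw [permOf_comp hxv (valid_comp hgv hxv), permOf_comp hgv hxv] at h
    rw [mul_inv_eq_iff_eq_mul, eq_inv_mul_iff_mul_eq]
    exact h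
  have hgn : ∀ u ∈ Cfsg.Spor.M22, permOf (comp (pk 9) (wordP [1, 6, 4, 4, 7, 0])) * u *
      (permOf (comp (pk 9) (wordP [1, 6, 4, 4, 7, 0])))⁻¹ ∈ Cfsg.Spor.M22 := fun u hu => by
    rw [permOf_comp (pk_valid 9) hwv]
    have h := pk_outer_conj (mul_mem (mul_mem (hmem [1, 6, 4, 4, 7, 0] (by decide)) hu)
      (inv_mem (hmem [1, 6, 4, 4, 7, 0] (by decide))))
    rw [show permOf (pk 9) * permOf (wordP [1, 6, 4, 4, 7, 0]) * u *
      (permOf (pk 9) * permOf (wordP [1, 6, 4, 4, 7, 0]))⁻¹ = permOf (pk 9) *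
      (permOf (wordP [1, 6, 4, 4, 7, 0]) * u * (permOf (wordP [1, 6, 4, 4, 7, 0]))⁻¹) * (permOf (pk 9))⁻¹ by group]
    exact h
  let g : MulAut ↥Cfsg.Spor.M22 := Golay.Aut.conjAutOf _ _ hgn
  refine ⟨MulAut.conj ⟨permOf x, hxm⟩, g, fun e => hne ?_, ?_, ?_⟩
  · have h1 : permOf x = 1 := Setting.M22_center hxm fun u hu => by
      have := congrArg (fun b : MulAut _ => ((b ⟨u, hu⟩ : ↥Cfsg.Spor.M22) : Equiv.Perm GolayPt)) e
      exact (mul_inv_eq_iff_eq_mul.1 this).symm
    have h2 := idx_permOf hxv (pt 1)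
    rw [h1, Equiv.Perm.one_apply, idx_pt (by norm_num)] at h2
    exact h2.symm
  · rw [← map_pow, show (⟨permOf x, hxm⟩ : ↥Cfsg.Spor.M22) ^ 11 = 1 from Subtype.ext e11, map_one]
  · rw [← map_inv]
    refine MulEquiv.ext fun u => ?_
    rw [MulAut.mul_apply, MulAut.mul_apply, MulAut.conj_apply, map_mul, map_mul, map_inv, MulAut.inv_def,
      MulEquiv.apply_symm_apply, MulAut.conj_apply,
      show g ⟨permOf x, hxm⟩ = ⟨permOf x, hxm⟩⁻¹ from Subtype.ext hgx]

end Cfsg.Agent.Spor.JFour.Bridge
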