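import Cfsg.Agent.Lib.Spor.JFourType.OrbitExcl
import Cfsg.Agent.Lib.Spor.JFourType.Mathieu.Final
import Cfsg.Agent.Lib.Spor.JFourType.Mathieu.SecondCentralizer
import Cfsg.Agent.Lib.Spor.JFourType.Bridge.Inverted
import Cfsg.Agent.S3313

/-!
The order formula for a group of Janko-four type in terms of the two pair counts.
-/

set_option autoImplicit false
set_option maxRecDepth 100000
set_option linter.style.haveILetI false

open Cfsg
open scoped Pointwise

namespace Cfsg.Agent.Spor.JFour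

/-- The number of pairs from the classes of `z` and `t` whose product has `x` among its powers. -/
noncomputable def pairCount {G : Type*} [Group G] (z t x : G) : ℕ :=
  Nat.card {p : G × G // IsConj z p.1 ∧ IsConj t p.2 ∧ x ∈ Subgroup.zpowers (p.1 * p.2)}

theorem aCount_eq {G : Type*} [Group G] [Finite G] (z t : G) {x : G} (hx : orderOf x = 2) :
    S3313.aCount z t x = pairCount z t x := by
  refine Nat.card_congr (Equiv.subtypeEquivRight fun p =>
    and_congr_right fun _ => and_congr_right fun _ => ⟨fun e => e ▸ pow_mem (Subgroup.mem_zpowers _) _, fun hm => ?_⟩)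
  obtain ⟨k, hk⟩ := (isOfFinOrder_of_finite (p.1 * p.2)).mem_powers_iff_mem_zpowers.2 hm
  have hk' : (p.1 * p.2) ^ k = x := hk
  show (p.1 * p.2) ^ (orderOf (p.1 * p.2) / 2) = x
  set n := orderOf (p.1 * p.2) with hn
  have hx1 : x ≠ 1 := fun e => by rw [e, orderOf_one] at hx; omega
  have h2 : n ∣ k * 2 := by
    rw [hn, orderOf_dvd_iff_pow_eq_one, pow_mul, hk', ← hx, pow_orderOf_eq_one]
  have h1 : ¬ n ∣ k := fun h => hx1 (by rw [← hk']; exact orderOf_dvd_iff_pow_eq_one.1 (hn ▸ h))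
  have hne : ¬ Odd n := fun ho => h1 ((Nat.coprime_two_right.2 ho).dvd_of_dvd_mul_right h2)
  obtain ⟨m, hm'⟩ := Nat.not_odd_iff_even.1 hne
  have hpos : 0 < n := orderOf_pos _
  obtain ⟨j, hj⟩ := h2
  have hkm : k = m * j := by
    rw [hm'] at hj
    nlinarith
  have hjo : Odd j := by
    rw [← Nat.not_even_iff_odd]
    rintro ⟨i, rfl⟩
    exact h1 ⟨i, by rw [hkm, hm']; ring⟩
  obtain ⟨i, rfl⟩ := hjo
  rw [← hk', show n / 2 = m by omega, hkm, show m * (2 * i + 1) = n * i + m by rw [hm']; ring, pow_add, pow_mul,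
    pow_orderOf_eq_one, one_pow, one_mul]

namespace Frame

variable {G : Type*} [Group G] [Finite G] [IsSimpleGroup G] {z : G} {P : Subgroup G} {S : Setting z P} (Fr : Frame S)

theorem into_second (hG : ¬ IsMulCommutative G) {x : G} (hx : orderOf x = 2) :
    IsConj z x ∨ ∃ v < 2048, Mathieu.tMask.testBit v = true ∧ IsConj (Fr.Av v) x := by
  haveI : Fact (Nat.Prime 2) := ⟨Nat.prime_two⟩
  have D := Fr.duadic hG
  have hfus : Fr.Classes := fun v hv => Fr.inO_iff hG hv
  have hxx : x * x = 1 := by rw [← pow_two, ← hx, pow_orderOf_eq_one]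
  have hTN : (Fr.F.sylowT : Subgroup G) ≤ Subgroup.normalizer (Fr.A : Set G) := by
    intro s hs
    refine Fr.normalizer_of_conj_le fun a ha => ?_
    have hA : Fr.A.map (MulAut.conj s).toMonoidHom = Fr.A := by
      refine Fr.unique_in_T ?_ ?_ ?_ ?_
      · rintro _ ⟨b, hb, rfl⟩
        exact mul_mem (mul_mem hs (Fr.A_le_T hb)) (inv_mem hs)
      · rintro _ ⟨b, hb, rfl⟩ _ ⟨c, hc, rfl⟩
        rw [← map_mul, ← map_mul, Fr.A_comm b hb c hc]
      · rintro _ ⟨b, hb, rfl⟩
        rw [← map_mul, Fr.A_sq b hb, map_one]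
      · rw [Subgroup.card_map_of_injective (MulAut.conj s).injective, Fr.card_A]
    exact Subgroup.le_normalizer (hA ▸ Subgroup.mem_map.2 ⟨a, ha, rfl⟩)
  obtain ⟨T', hT'⟩ := (IsPGroup.of_card (p := 2) (n := 1) (by rw [Nat.card_zpowers, hx, pow_one]) :
    IsPGroup 2 ↥(Subgroup.zpowers x)).exists_le_sylow
  obtain ⟨h, hh⟩ := MulAction.exists_smul_eq G T' Fr.F.sylowT
  have htN : h * x * h⁻¹ ∈ Subgroup.normalizer (Fr.A : Set G) := hTN (by
    have := Subgroup.smul_mem_pointwise_smul _ (MulAut.conj h) _ (hT' (Subgroup.mem_zpowers x))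
    change _ ∈ ((h • T' : Sylow 2 G) : Subgroup G) at this
    rw [hh] at this
    simpa [MulAut.smul_def] using this)
  obtain ⟨k, hk⟩ := Fr.invol_into D htN (by
    rw [show h * x * h⁻¹ * (h * x * h⁻¹) = h * (x * x) * h⁻¹ by group, hxx]; group)
  obtain ⟨v, hv, hve⟩ := hk
  have hcj : IsConj (Fr.Av v) x := isConj_iff.2 ⟨(k * h)⁻¹, by rw [hve]; group⟩
  by_cases hT : Mathieu.tMask.testBit v = true
  · exact Or.inr ⟨v, hv, hT, hcj⟩
  rw [Bool.not_eq_true] at hT
  have hne : v ≠ 0 := fun e => by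
    rw [e, Fr.Av_zero] at hcj
    rw [isConj_one_right.1 hcj, orderOf_one] at hx
    omega
  exact Or.inl ((isConj_iff.2 ((hfus v hv).2 ⟨hne, hT⟩)).trans hcj)

theorem second_orbit (hG : ¬ IsMulCommutative G) {v w : ℕ} (hv : v < 2048) (hw : w < 2048)
    (hTv : Mathieu.tMask.testBit v = true) (hTw : Mathieu.tMask.testBit w = true) :
    IsConj (Fr.Av v) (Fr.Av w) := by
  classical
  obtain ⟨f, -, hsurj, hf⟩ := Fr.exists_toM24 (Fr.duadic hG)
  obtain ⟨a, b, hab, ev⟩ := Mathieu.mask_duad hv hTv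
  obtain ⟨c, d, hcd, ew⟩ := Mathieu.mask_duad hw hTw
  obtain ⟨g, hg, eg⟩ := Golay.Census.exists_pair (s := ({a, b} : Finset Cfsg.GolayPt)) (Finset.card_pair hab)
  obtain ⟨h, hh, eh⟩ := Golay.Census.exists_pair (s := ({c, d} : Finset Cfsg.GolayPt)) (Finset.card_pair hcd)
  obtain ⟨n, hn⟩ := hsurj ⟨h * g⁻¹, mul_mem hh (inv_mem hg)⟩
  have hs : ({(h * g⁻¹) a, (h * g⁻¹) b} : Finset Cfsg.GolayPt) = {c, d} := by
    rw [← eh, show h • Golay.pts 3 = (h * g⁻¹) • (g • Golay.pts 3) by rw [smul_smul, inv_mul_cancel_right], eg,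
      Finset.smul_finset_insert, Finset.smul_finset_singleton]
    rfl
  refine isConj_iff.2 ⟨n, ?_⟩
  obtain ⟨u, hu, eu⟩ := Fr.mem_A.1 ((Subgroup.mem_normalizer_iff.1 n.2 _).1 (Fr.Av_mem hv))
  have h1 := Fr.actV_vb n hv hu eu.symm
  rw [← ev, Mathieu.duad_eq, hf n a b hab, hn] at h1
  rw [← eu]
  refine congrArg Fr.Av (Mathieu.vb_inj hu hw ?_)
  rw [← h1, ← ew, Mathieu.duad_eq]
  have := congrArg (fun s : Finset Cfsg.GolayPt => ∑ i ∈ s, Mathieu.cV i) hs
  simp only [Finset.sum_pair (fun e => hab ((h * g⁻¹).injective e)), Finset.sum_pair hcd] at this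
  exact this

theorem card_second (hG : ¬ IsMulCommutative G) {v : ℕ} (hv : v < 2048) (hT : Mathieu.tMask.testBit v = true) :
    Nat.card ↥(Subgroup.centralizer ({Fr.Av v} : Set G)) = 1816657920 := by
  have hfus : Fr.Classes := fun v hv => Fr.inO_iff hG hv
  have D := Fr.duadic hG
  have hC := Fr.centralizer_le_normalizer D hfus hv hT
  obtain ⟨K, hKC, hAC, hKA, hsup, ⟨i⟩⟩ := Fr.centralizer_split D hv hT hC
  have h := S3313.card_of_factor hKC hAC hKA fun c hc => by
    rw [← hsup, ← SetLike.mem_coe, Subgroup.coe_mul_of_left_le_normalizer_right _ _ (hKC.trans hC)] at hc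
    obtain ⟨k, hk, a, ha, rfl⟩ := hc
    exact ⟨k, hk, a, ha, rfl⟩
  rw [h, Nat.card_congr i.toEquiv, Bridge.card_aut, Fr.card_A]
  try norm_num

/-- A representative of the second class. -/
theorem exists_second (hG : ¬ IsMulCommutative G) :
    orderOf (Fr.Av 43) = 2 ∧ Mathieu.tMask.testBit 43 = true ∧ ¬ IsConj z (Fr.Av 43) ∧
      ∀ x : G, orderOf x = 2 → IsConj x z ∨ IsConj x (Fr.Av 43) := by
  have hT : Mathieu.tMask.testBit 43 = true := by decide +kernel
  have hfus : Fr.Classes := fun v hv => Fr.inO_iff hG hv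
  refine ⟨?_, hT, fun hc => ?_, fun x hx => ?_⟩
  · refine orderOf_eq_prime ?_ fun e => ?_
    · rw [pow_two, Fr.Av_mul (by norm_num) (by norm_num), Nat.xor_self, Fr.Av_zero]
    · rw [← Fr.Av_zero] at e
      exact absurd (Fr.Av_inj (by norm_num) (by norm_num) e) (by norm_num)
  · have := ((hfus 43 (by norm_num)).1 (isConj_iff.1 hc)).2
    rw [hT] at this
    exact Bool.noConfusion this
  · rcases Fr.into_second hG hx with h | ⟨v, hv, hTv, h⟩
    · exact Or.inl h.symm
    · exact Or.inr (h.symm.trans (Fr.second_orbit hG hv (by norm_num) hTv hT))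

/-- The order from the two counts. -/
theorem order_of_counts (hG : ¬ IsMulCommutative G)
    (hz : Nat.card ↥(Subgroup.centralizer ({z} : Set G)) = 21799895040) (hzo : orderOf z = 2) {az at' : ℕ}
    (haz : pairCount z (Fr.Av 43) z = az) (hat : pairCount z (Fr.Av 43) (Fr.Av 43) = at') :
    Nat.card G = 1816657920 * az + 21799895040 * at' := by
  obtain ⟨hto, hT, hnc, hcl⟩ := Fr.exists_second hG
  rw [S3313.order_formula z (Fr.Av 43) hzo hto hnc hcl, Fr.card_second hG (by norm_num) hT, hz, aCount_eq _ _ hzo,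
    aCount_eq _ _ hto, haz, hat]

end Frame

end Cfsg.Agent.Spor.JFour
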