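import Cfsg.Agent.Lib.Spor.JFourType.Bridge.Main
import Cfsg.Agent.Lib.Spor.JFourType.Bridge.Formula

/-!
The order and the two classes of involutions from the chain hypotheses, given the two pair counts.
-/

set_option autoImplicit false
set_option linter.style.haveILetI false

open scoped commutatorElement
open Cfsg

namespace Cfsg.Agent.Spor.JFour.Bridge

theorem j4_order {G : Type*} [Group G] [Finite G] [IsSimpleGroup G]
    (hcount : ∀ (z : G) (P : Subgroup G) (S : Setting z P) (Fr : Frame S), ¬ IsMulCommutative G →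
      Nat.card ↥(Subgroup.centralizer ({z} : Set G)) = 21799895040 →
      pairCount z (Fr.Av 43) z = 29236337328 ∧ pairCount z (Fr.Av 43) (Fr.Av 43) = 1544188503)
    (t : G) (ht : orderOf t = 2) (Q N M : Subgroup (Subgroup.centralizer ({t} : Set G))) [Q.Normal] [N.Normal]
    [M.Normal] (hQN : Q ≤ N) (hNM : N ≤ M) (hM : M.index = 2) (hQ : Cfsg.IsExtraspecial 2 Q)
    (hcard : Nat.card Q = 2 ^ 13) (hN : Nat.card N = 3 * Nat.card Q) (hcent : ⁅M, N⁆ ≤ Q)
    (hperf : M ≤ ⁅M, M⁆ ⊔ Q)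
    (h2c : Subgroup.centralizer (Q : Set (Subgroup.centralizer ({t} : Set G))) ≤ Q)
    (hout : ∀ c : Subgroup.centralizer ({t} : Set G), (∀ m ∈ M, c * m * c⁻¹ * m⁻¹ ∈ N) → c ∈ M)
    (hM22 : Cfsg.Spor.IsoM22 (M ⧸ N.subgroupOf M)) :
    Cfsg.IsJ4 G ∧ ∃ x y : G, orderOf x = 2 ∧ orderOf y = 2 ∧ ¬ IsConj x y ∧
      ∀ w : G, orderOf w = 2 → IsConj w x ∨ IsConj w y := by
  have htC : t ∈ Subgroup.centralizer ({t} : Set G) := Subgroup.mem_centralizer_singleton_iff.2 rfl
  have hyp : Hyp (⟨t, htC⟩ : Subgroup.centralizer ({t} : Set G)) Q N M :=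
    { ord := by rw [Subgroup.orderOf_mk, ht]
      cen := fun h => Subtype.ext (Subgroup.mem_centralizer_singleton_iff.1 h.2)
      Qn := inferInstance
      Nn := inferInstance
      Mn := inferInstance
      QN := hQN
      NM := hNM
      idx := hM
      ext := hQ
      cardQ := hcard
      cardN := by rw [hN, hcard]
      comm := hcent
      perf := hperf
      self := h2c
      out := hout
      quot := ⟨inferInstance, hM22⟩ }
  obtain ⟨⟨P, hJ⟩, hH⟩ := isOfType rfl htC hyp
  have hG : ¬ IsMulCommutative G := fun hc => by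
    obtain ⟨n, hn⟩ : ∃ n : ℕ, n = Nat.card (Subgroup.center Q) := ⟨_, rfl⟩
    have htop : Subgroup.center Q = ⊤ := eq_top_iff.2 fun x _ => Subgroup.mem_center_iff.2 fun y =>
      Subtype.ext (Subtype.ext (hc.is_comm.comm _ _))
    have h2 := hQ.2
    rw [htop, Subgroup.card_top, hcard] at h2
    norm_num at h2
  obtain ⟨S⟩ := exists_setting hJ
  obtain ⟨Fr⟩ := exists_frameA S
  obtain ⟨hto, -, hnc, hcl⟩ := Fr.exists_second hG
  obtain ⟨haz, hat⟩ := hcount t P S Fr hG hH
  refine ⟨⟨inferInstance, ?_⟩, t, Fr.Av 43, ht, hto, hnc, hcl⟩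
  rw [Fr.order_of_counts hG hH ht haz hat]

end Cfsg.Agent.Spor.JFour.Bridge
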