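import Cfsg.Agent.Lib.Spor.JFourType.Setting
import Cfsg.Agent.Lib.Spor.JFourType.Basic
import Cfsg.Agent.Lib.Spor.JFourType.Bridge.Module
import Cfsg.Agent.Lib.Spor.JFourType.Bridge.Inverted

/-!
The centraliser hypotheses with a chain `Q ≤ N ≤ M` and quotient the Mathieu group on 22 points give the
Janko-four-type conditions, inside the centraliser.
-/

set_option autoImplicit false
set_option linter.style.haveILetI false

open scoped commutatorElement
open Cfsg

namespace Cfsg.Agent.Spor.JFour.Bridge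

variable {H : Type*} [Group H] [Finite H]

/-- The hypotheses inside the centraliser. -/
structure Hyp (z : H) (Q N M : Subgroup H) : Prop where
  ord : orderOf z = 2
  cen : ∀ h, h * z = z * h
  Qn : Q.Normal
  Nn : N.Normal
  Mn : M.Normal
  QN : Q ≤ N
  NM : N ≤ M
  idx : M.index = 2
  ext : IsExtraspecial 2 Q
  cardQ : Nat.card Q = 2 ^ 13
  cardN : Nat.card N = 3 * 2 ^ 13
  comm : ⁅M, N⁆ ≤ Q
  perf : M ≤ ⁅M, M⁆ ⊔ Q
  self : Subgroup.centralizer (Q : Set H) ≤ Q
  out : ∀ c : H, (∀ m ∈ M, c * m * c⁻¹ * m⁻¹ ∈ N) → c ∈ M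
  quot : ∃ _ : (N.subgroupOf M).Normal, Nonempty (↥M ⧸ N.subgroupOf M ≃* ↥Cfsg.Spor.M22)

namespace Hyp

variable {z : H} {Q N M : Subgroup H} (h : Hyp z Q N M)
include h

theorem zz : z * z = 1 := by rw [← pow_two, ← h.ord, pow_orderOf_eq_one]

theorem z_ne : z ≠ 1 := fun e => by
  have := h.ord
  rw [e, orderOf_one] at this
  omega

theorem z_mem : z ∈ Q := h.self (Subgroup.mem_centralizer_iff.2 fun q _ => h.cen q)

theorem card_M_quot : Nat.card (↥M ⧸ N.subgroupOf M) = 443520 := by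
  obtain ⟨hn, ⟨e⟩⟩ := h.quot
  rw [Nat.card_congr e.toEquiv, Fus.Mathieu.card22]

theorem card_M : Nat.card M = 443520 * Nat.card N := by
  rw [Subgroup.card_eq_card_quotient_mul_card_subgroup (N.subgroupOf M), h.card_M_quot,
    Nat.card_congr (Subgroup.subgroupOfEquivOfLe h.NM).toEquiv]

/-- A normal subgroup of `M` containing an element outside `N` covers `M` together with `N`. -/
theorem cover (K : Subgroup M) [K.Normal] {y : M} (hyK : y ∈ K) (hyN : (y : H) ∉ N) (m : M) :
    ∃ k ∈ K, ∃ n : M, (n : H) ∈ N ∧ m = k * n := by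
  obtain ⟨hn, ⟨e⟩⟩ := h.quot
  haveI := simple_M22
  haveI : Nontrivial (↥M ⧸ N.subgroupOf M) := e.toEquiv.nontrivial
  haveI : IsSimpleGroup (↥M ⧸ N.subgroupOf M) := e.isSimpleGroup_congr.2 simple_M22
  rcases (Subgroup.Normal.map (inferInstance : K.Normal) (QuotientGroup.mk' (N.subgroupOf M))
    (QuotientGroup.mk'_surjective _)).eq_bot_or_eq_top with hb | ht
  · exfalso
    have := Subgroup.mem_map_of_mem (QuotientGroup.mk' (N.subgroupOf M)) hyK
    rw [hb, Subgroup.mem_bot, QuotientGroup.mk'_apply, QuotientGroup.eq_one_iff] at this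
    exact hyN this
  · obtain ⟨k, hk, hkm⟩ := (ht ▸ Subgroup.mem_top (QuotientGroup.mk' (N.subgroupOf M) m) :
      QuotientGroup.mk' (N.subgroupOf M) m ∈ K.map (QuotientGroup.mk' (N.subgroupOf M)))
    exact ⟨k, hk, k⁻¹ * m, (QuotientGroup.eq.1 hkm : _), by rw [mul_inv_cancel_left]⟩

theorem center_cases {x : H} (hx : x ∈ Q) (hc : ∀ y ∈ Q, y * x = x * y) : x = 1 ∨ x = z := by
  haveI := h.Qn
  obtain ⟨a, b, hab, huniv⟩ := Nat.card_eq_two_iff.1 h.ext.2
  have hz : (⟨z, h.z_mem⟩ : Q) ∈ Subgroup.center Q :=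
    Subgroup.mem_center_iff.2 fun y => Subtype.ext (h.cen y)
  have hx' : (⟨x, hx⟩ : Q) ∈ Subgroup.center Q :=
    Subgroup.mem_center_iff.2 fun y => Subtype.ext (hc y y.2)
  have hm : ∀ w : Subgroup.center Q, w = a ∨ w = b := fun w => by
    have := huniv ▸ Set.mem_univ w; simpa using this
  have hne : (⟨⟨z, h.z_mem⟩, hz⟩ : Subgroup.center Q) ≠ 1 := fun e =>
    h.z_ne (congrArg (fun w : Subgroup.center Q => ((w : Q) : H)) e)
  rcases hm 1 with e1 | e1 <;> rcases hm ⟨⟨z, h.z_mem⟩, hz⟩ with e2 | e2 <;>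
    rcases hm ⟨⟨x, hx⟩, hx'⟩ with e3 | e3
  all_goals first
    | exact absurd (e2.trans e1.symm) hne
    | exact Or.inl (congrArg (fun w : Subgroup.center Q => ((w : Q) : H)) (e3.trans e1.symm))
    | exact Or.inr (congrArg (fun w : Subgroup.center Q => ((w : Q) : H)) (e3.trans e2.symm))

theorem ext_facts : ExtraPair.Ext z Q := by
  haveI := h.Qn
  obtain ⟨hsqc, hcommc⟩ := Fus.extraspecial_two_facts h.ext
  have hcen : ∀ x : Q, x ∈ Subgroup.center _ → (x : H) = 1 ∨ (x : H) = z := fun x hx =>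
    h.center_cases x.2 fun y hy => congrArg Subtype.val (Subgroup.mem_center_iff.1 hx ⟨y, hy⟩)
  refine ⟨h.z_mem, h.z_ne, h.zz, fun q _ => h.cen q, fun x hx y hy => hcen _ (hcommc ⟨x, hx⟩ ⟨y, hy⟩),
    fun x hx => ?_, fun x hx hc => h.center_cases hx hc,
    fun c hc => h.self (Subgroup.mem_centralizer_iff.2 hc), fun c _ q hq => Subgroup.Normal.conj_mem inferInstance q hq c⟩
  rw [← pow_two]
  exact hcen _ (hsqc ⟨x, hx⟩)

/-- The representation on the core modulo its centre. -/
theorem exists_act : ∃ (π : H → (Fin 12 → ZMod 2)) (q : QuadraticForm (ZMod 2) (Fin 12 → ZMod 2))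
    (act : H →* Module.End (ZMod 2) (Fin 12 → ZMod 2)),
    (∀ v, ∃ x ∈ Q, π x = v) ∧ (∀ x ∈ Q, π x = 0 ↔ x = 1 ∨ x = z) ∧
    (QuadraticMap.polarBilin q).Nondegenerate ∧
    (∀ g, ∀ x ∈ Q, act g (π x) = π (g * x * g⁻¹)) ∧ (∀ g v, q (act g v) = q v) ∧
    (∀ x ∈ Q, ∀ y ∈ Q, π x = π y → x = y ∨ x = y * z) ∧ (∀ g, act g = 1 ↔ g ∈ Q) := by
  classical
  haveI := h.Qn
  obtain ⟨ze, π, q, d⟩ := ExtraOut.exists_data (ι := Fin 12) h.ext (by rw [h.cardQ, Fintype.card_fin]; norm_num)
  have hze : (ze : H) = z := by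
    rcases h.center_cases ze.2 fun y hy => congrArg Subtype.val (d.comm ⟨y, hy⟩) with e | e
    · exact absurd (Subtype.ext e) d.ne
    · exact e
  let π' : H → (Fin 12 → ZMod 2) := fun x => if hx : x ∈ Q then (π ⟨x, hx⟩).toAdd else 0
  have hπ : ∀ x (hx : x ∈ Q), π' x = (π ⟨x, hx⟩).toAdd := fun x hx => dif_pos hx
  let act : H →* Module.End (ZMod 2) (Fin 12 → ZMod 2) :=
    { toFun := fun g => ExtraOut.ind d (MulAut.conjNormal (H := Q) g)
      map_one' := by rw [map_one, ExtraOut.ind_one]; rfl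
      map_mul' := fun a b => by rw [map_mul, ExtraOut.ind_mul]; rfl }
  have hact : ∀ g, ∀ x ∈ Q, act g (π' x) = π' (g * x * g⁻¹) := fun g x hx => by
    rw [hπ x hx, hπ _ (Subgroup.Normal.conj_mem inferInstance x hx g)]
    show ExtraOut.ind d (MulAut.conjNormal (H := Q) g) _ = _
    rw [ExtraOut.ind_apply]
    rfl
  have hcases : ∀ x ∈ Q, ∀ y ∈ Q, π' x = π' y → x = y ∨ x = y * z := fun x hx y hy e => by
    rw [hπ x hx, hπ y hy, Equiv.apply_eq_iff_eq] at e
    rcases ExtraOut.mem_ker_cases d e with e | e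
    · exact Or.inl (congrArg Subtype.val e)
    · exact Or.inr (by rw [← hze]; exact congrArg Subtype.val e)
  refine ⟨π', q, act, fun v => ?_, fun x hx => ?_, d.nd, hact, fun g v => ExtraOut.ind_quad d _ v, hcases,
    fun g => ⟨fun e => h.ext_facts.mem_of_trivial fun x hx => ?_, fun hg => ?_⟩⟩
  · obtain ⟨x, hx⟩ := d.surj (Multiplicative.ofAdd v)
    exact ⟨x, x.2, by rw [hπ _ x.2, Subtype.coe_eta, hx, toAdd_ofAdd]⟩
  · rw [hπ x hx, toAdd_eq_zero, d.ker]
    exact or_congr (Subtype.ext_iff.trans Iff.rfl) (Subtype.ext_iff.trans (by rw [hze]))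
  · have := hact g x hx
    rw [e, Module.End.one_apply] at this
    exact hcases _ (Subgroup.Normal.conj_mem inferInstance x hx g) x hx this.symm
  · refine ExtraOut.ind_ext d fun x => ?_
    show ExtraOut.ind d (MulAut.conjNormal (H := Q) g) _ = _
    rw [ExtraOut.ind_apply, show MulAut.conjNormal (H := Q) g x = (⟨g, hg⟩ : Q) * x * ⟨g, hg⟩⁻¹ from rfl,
      map_mul π, map_mul π, map_inv π, mul_comm (π ⟨g, hg⟩), mul_inv_cancel_right]
    rfl

/-- The largest normal two-subgroup. -/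
theorem pCore_eq : pCore 2 H = Q := by
  classical
  haveI : Fact (Nat.Prime 2) := ⟨Nat.prime_two⟩
  haveI := h.Qn
  haveI := h.Nn
  haveI := h.Mn
  have hQ : Q ≤ pCore 2 H := Grp.le_pCore h.Qn (IsPGroup.of_card h.cardQ)
  haveI : (pCore 2 H).Normal := Grp.pCore_isNormal
  have hR : IsPGroup 2 ↥(pCore 2 H) := Grp.pCore_isPGroup
  have hRM : pCore 2 H ⊓ M ≤ N := by
    intro x hx
    by_contra hxN
    haveI : ((pCore 2 H).subgroupOf M).Normal := Subgroup.normal_subgroupOf
    have hall : ∀ m : M, ∃ k ∈ (pCore 2 H).subgroupOf M, ∃ n : M, (n : H) ∈ N ∧ m = k * n :=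
      h.cover _ (y := ⟨x, hx.2⟩) (Subgroup.mem_subgroupOf.2 hx.1) hxN
    obtain ⟨m, hm⟩ := exists_prime_orderOf_dvd_card' (G := ↥M) 11 (hp := ⟨by norm_num⟩) (by rw [h.card_M]; omega)
    obtain ⟨k, hk, n, hn, rfl⟩ := hall m
    haveI := h.quot.choose
    obtain ⟨j, hj⟩ := hR.comap_subtype (H := pCore 2 H) (K := M) ⟨k, hk⟩
    have hk1 : ((k : H)) ^ 2 ^ j = 1 := congrArg (fun u : ↥((pCore 2 H).subgroupOf M) => ((u : M) : H)) hj
    have h1 : QuotientGroup.mk' (N.subgroupOf M) (k * n) ^ 2 ^ j = 1 := by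
      rw [map_mul, (QuotientGroup.eq_one_iff n).2 (Subgroup.mem_subgroupOf.2 hn) |> fun e =>
        (show QuotientGroup.mk' (N.subgroupOf M) n = 1 from e), mul_one, ← map_pow,
        show k ^ 2 ^ j = 1 from Subtype.ext hk1, map_one]
    have h2 : QuotientGroup.mk' (N.subgroupOf M) (k * n) ^ 11 = 1 := by
      rw [← map_pow, ← hm, pow_orderOf_eq_one, map_one]
    have h3 : QuotientGroup.mk' (N.subgroupOf M) (k * n) = 1 := by
      rw [← pow_one (QuotientGroup.mk' _ _), ← show Nat.gcd 11 (2 ^ j) = 1 from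
        (Nat.Coprime.pow_right j (by norm_num)), pow_gcd_eq_one.2 ⟨h2, h1⟩]
    rw [QuotientGroup.mk'_apply, QuotientGroup.eq_one_iff, Subgroup.mem_subgroupOf] at h3
    have := orderOf_dvd_natCard (⟨((k * n : M) : H), h3⟩ : N)
    rw [Subgroup.orderOf_mk, Subgroup.orderOf_coe, hm, h.cardN] at this
    norm_num at this
  have hle : pCore 2 H ≤ N := fun c hc => hRM ⟨hc, h.out c fun m hm => hRM ⟨?_, ?_⟩⟩
  · obtain ⟨k, hk⟩ := hR.exists_card_eq
    have hd : Nat.card ↥(pCore 2 H) ∣ Nat.card N := Subgroup.card_dvd_of_le hle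
    rw [hk, h.cardN] at hd
    have hd' := ((Nat.Coprime.pow_left k (by norm_num : Nat.Coprime 2 3)).dvd_of_dvd_mul_left) hd
    exact (Subgroup.eq_of_le_of_card_ge hQ (by rw [hk, h.cardQ]; exact Nat.le_of_dvd (by norm_num) hd')).symm
  · rw [show c * m * c⁻¹ * m⁻¹ = c * (m * c⁻¹ * m⁻¹) by group]
    exact mul_mem hc (Subgroup.Normal.conj_mem inferInstance _ ((pCore 2 H).inv_mem hc) m)
  · exact mul_mem (Subgroup.Normal.conj_mem inferInstance _ hm c) (M.inv_mem hm)

/-- The quotient is the automorphism group. -/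
theorem exists_aut : ∃ _ : N.Normal, Nonempty (H ⧸ N ≃* MulAut ↥Cfsg.Spor.M22) := by
  classical
  haveI := h.Nn
  haveI := h.Mn
  obtain ⟨hn, ⟨e⟩⟩ := h.quot
  refine ⟨h.Nn, ?_⟩
  let m0 : ↥M →* H ⧸ N := (QuotientGroup.mk' N).comp M.subtype
  have hker : m0.ker = N.subgroupOf M := by
    ext x
    simp [m0, Subgroup.mem_subgroupOf]
  let eR : ↥Cfsg.Spor.M22 ≃* ↥m0.range :=
    (e.symm.trans (QuotientGroup.quotientMulEquivOfEq hker.symm)).trans (QuotientGroup.quotientKerEquivRange m0)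
  haveI hRn : m0.range.Normal := by
    rw [MonoidHom.range_comp, Subgroup.range_subtype]
    exact h.Mn.map _ (QuotientGroup.mk'_surjective N)
  let ψ : H ⧸ N →* MulAut ↥Cfsg.Spor.M22 :=
    (MulAut.congr eR.symm).toMonoidHom.comp (MulAut.conjNormal (H := m0.range))
  have hψ : Function.Injective ψ := (injective_iff_map_eq_one _).2 fun b hb => by
    have hb' : MulAut.conjNormal (H := m0.range) b = 1 := (map_eq_one_iff _ (MulAut.congr eR.symm).injective).1 hb
    have hc : ∀ r ∈ m0.range, b * r * b⁻¹ = r := fun r hr => by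
      have := congrArg (fun a : MulAut m0.range => ((a ⟨r, hr⟩ : m0.range) : H ⧸ N)) hb'
      simpa using this
    obtain ⟨c, rfl⟩ := QuotientGroup.mk'_surjective N b
    have hcM : c ∈ M := h.out c fun m hm => by
      have := hc (QuotientGroup.mk' N m) ⟨⟨m, hm⟩, rfl⟩
      rw [← map_inv, ← map_mul, ← map_mul, ← mul_inv_eq_one, ← map_inv, ← map_mul, QuotientGroup.mk'_apply,
        QuotientGroup.eq_one_iff] at this
      exact this
    have hin : QuotientGroup.mk' N c ∈ m0.range := ⟨⟨c, hcM⟩, rfl⟩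
    set a := eR.symm ⟨_, hin⟩ with ha
    have ha1 : a = 1 := Subtype.ext (Setting.M22_center a.2 fun g hg => by
      have h1 : eR a * eR ⟨g, hg⟩ * (eR a)⁻¹ = eR ⟨g, hg⟩ := by
        rw [ha, MulEquiv.apply_symm_apply]
        exact Subtype.ext (hc _ (eR ⟨g, hg⟩).2)
      rw [← map_inv, ← map_mul, ← map_mul] at h1
      exact (mul_inv_eq_iff_eq_mul.1 (congrArg Subtype.val (eR.injective h1))).symm)
    rw [ha, MulEquiv.map_eq_one_iff] at ha1
    exact congrArg Subtype.val ha1
  refine ⟨MulEquiv.ofBijective ψ (hψ.bijective_of_nat_card_le ?_)⟩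
  have h1 : Nat.card M * 2 = Nat.card H := by rw [← h.idx]; exact M.card_mul_index
  rw [card_aut]
  have h2 := Subgroup.card_eq_card_quotient_mul_card_subgroup N
  have h3 := h.card_M
  rw [h.cardN] at h2 h3
  omega

/-- The three-group. -/
theorem exists_gen : ∃ p ∈ N, orderOf p = 3 ∧ N ≤ Q ⊔ Subgroup.zpowers p := by
  haveI : Fact (Nat.Prime 3) := ⟨Nat.prime_three⟩
  obtain ⟨⟨p, hp⟩, ho⟩ := exists_prime_orderOf_dvd_card' (G := ↥N) 3 (by rw [h.cardN]; exact Dvd.intro _ rfl)
  rw [Subgroup.orderOf_mk] at ho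
  refine ⟨p, hp, ho, ?_⟩
  have hle : Q ⊔ Subgroup.zpowers p ≤ N := sup_le h.QN (Subgroup.zpowers_le.2 hp)
  refine (Subgroup.eq_of_le_of_card_ge hle ?_).ge
  have d1 := Subgroup.card_dvd_of_le (le_sup_left : Q ≤ Q ⊔ Subgroup.zpowers p)
  have d2 := Subgroup.card_dvd_of_le (le_sup_right : Subgroup.zpowers p ≤ Q ⊔ Subgroup.zpowers p)
  rw [h.cardQ] at d1
  rw [Nat.card_zpowers, ho] at d2
  rw [h.cardN]
  exact Nat.le_of_dvd Nat.card_pos (Nat.Coprime.mul_dvd_of_dvd_of_dvd (by norm_num) d2 d1)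

/-- The conditions. -/
theorem main : ∃ p ∈ N, orderOf p = 3 ∧ (∀ x ∈ Q, p * x = x * p → x = 1 ∨ x = z) ∧
    (∃ g : H, g * p * g⁻¹ ∈ Subgroup.zpowers p ∧ g * p ≠ p * g) ∧
    p ∈ ⁅Subgroup.centralizer ({p} : Set H), Subgroup.centralizer ({p} : Set H)⁆ := by
  classical
  haveI := h.Qn
  haveI := h.Nn
  haveI := h.Mn
  obtain ⟨p, hpN, hp3, hNp⟩ := h.exists_gen
  refine ⟨p, hpN, hp3, ?_⟩
  have hp31 : p ^ 3 = 1 := by rw [← hp3, pow_orderOf_eq_one]
  have hpM : p ∈ M := h.NM hpN
  have hpQ : p ∉ Q := fun hp => by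
    have := orderOf_dvd_natCard (⟨p, hp⟩ : Q)
    rw [Subgroup.orderOf_mk, hp3, h.cardQ] at this
    norm_num at this
  obtain ⟨π, q, act, hsurj, hπ0, hnd, hact, hquad, hcases, hker⟩ := h.exists_act
  obtain ⟨a, ha⟩ : ∃ a, a = act p := ⟨_, rfl⟩
  have ha3 : a ^ 3 = 1 := by rw [ha, ← map_pow, hp31, map_one]
  have hane : a ≠ 1 := fun e => hpQ ((hker p).1 (ha ▸ e))
  -- elements of N commute with M on the module
  have hNM : ∀ n ∈ N, ∀ m ∈ M, act n * act m = act m * act n := fun n hn m hm => by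
    have hc : m * n * m⁻¹ * n⁻¹ ∈ Q := h.comm (Subgroup.commutator_mem_commutator hm hn)
    have h1 : act (m * n * m⁻¹ * n⁻¹) = 1 := (hker _).2 hc
    calc act n * act m = act (m * n * m⁻¹ * n⁻¹) * (act n * act m) := by rw [h1, one_mul]
      _ = act m * act n := by rw [← map_mul, ← map_mul, ← map_mul]; congr 1; group
  have ham : ∀ m ∈ M, a * act m = act m * a := fun m hm => ha ▸ hNM p hpN m hm
  obtain ⟨c, hc⟩ : ∃ c : ↥M, orderOf c = 7 :=
    exists_prime_orderOf_dvd_card' (G := ↥M) 7 (hp := ⟨by norm_num⟩) (by rw [h.card_M]; omega)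
  have hc7 : (c : H) ^ 7 = 1 := by rw [← hc, ← Subgroup.coe_pow, pow_orderOf_eq_one]; rfl
  have hcN : (c : H) ∉ N := fun hN => by
    have := orderOf_dvd_natCard (⟨(c : H), hN⟩ : N)
    rw [Subgroup.orderOf_mk, Subgroup.orderOf_coe, hc, h.cardN] at this
    norm_num at this
  -- no fixed vectors
  have hfix : ∀ x ∈ Q, p * x = x * p → x = 1 ∨ x = z := by
    intro x hx hpx
    by_contra hcon
    have hu : π x ≠ 0 := fun e => hcon ((hπ0 x hx).1 e)
    have hau : a (π x) = π x := by rw [ha, hact p x hx, hpx, mul_inv_cancel_right]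
    have hB : ∀ g : H, ∀ u v, QuadraticMap.polarBilin q (act g u) (act g v) = QuadraticMap.polarBilin q u v :=
      fun g u v => by
        simp only [QuadraticMap.polarBilin_apply_apply, QuadraticMap.polar]
        rw [← map_add (act g) u v, hquad, hquad, hquad]
    have hy := seven_trivial (QuadraticMap.polarBilin q) hnd.1 (Module.finrank_fin_fun (ZMod 2)) ha3
      (y := act c) (by rw [← map_pow, hc7, map_one]) (ham c c.2) (ha ▸ hB p) (hB c) hu hau
    let K : Subgroup ↥M :=
      { carrier := {m | (a + a ^ 2) * act (m : H) = a + a ^ 2}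
        one_mem' := by simp
        mul_mem' := fun {u v} hu hv => by
          show (a + a ^ 2) * act ((u : H) * v) = _
          rw [map_mul, ← mul_assoc, hu, hv]
        inv_mem' := fun {u} hu => by
          show (a + a ^ 2) * act ((u : H)⁻¹) = _
          conv_lhs => rw [← hu, mul_assoc, ← map_mul, mul_inv_cancel, map_one, mul_one] }
    have hmK : ∀ m : M, m ∈ K ↔ (a + a ^ 2) * act (m : H) = a + a ^ 2 := fun m => Iff.rfl
    have hcom : ∀ g : M, Commute (a + a ^ 2) (act (g : H)) := fun g =>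
      (show Commute a (act (g : H)) from ham g g.2).add_left ((show Commute a (act (g : H)) from ham g g.2).pow_left 2)
    haveI : K.Normal := ⟨fun m hm g => by
      rw [hmK] at hm ⊢
      show (a + a ^ 2) * act ((g : H) * (m : H) * (g : H)⁻¹) = _
      rw [map_mul, map_mul, ← mul_assoc, ← mul_assoc, (hcom g).eq, mul_assoc (act (g : H)) (a + a ^ 2), hm,
        ← (hcom g).eq, mul_assoc, ← map_mul, mul_inv_cancel, map_one, mul_one]⟩
    have hKM : ∀ m ∈ M, ∀ n ∈ M, (a + a ^ 2) * act ⁅m, n⁆ = a + a ^ 2 := fun m hm n hn => by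
      obtain ⟨k, hk, u, hu', e1⟩ := h.cover K (y := c) hy hcN ⟨m, hm⟩
      obtain ⟨l, hl, w, hw', e2⟩ := h.cover K (y := c) hy hcN ⟨n, hn⟩
      rw [hmK] at hk hl
      have em : m = (k : H) * u := congrArg Subtype.val e1
      have en : n = (l : H) * w := congrArg Subtype.val e2
      have hm1 : (a + a ^ 2) * act m = (a + a ^ 2) * act (u : H) := by rw [em, map_mul, ← mul_assoc, hk]
      have hn1 : (a + a ^ 2) * act n = (a + a ^ 2) * act (w : H) := by rw [en, map_mul, ← mul_assoc, hl]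
      have hswap : (a + a ^ 2) * act (m * n) = (a + a ^ 2) * act (n * m) := by
        calc (a + a ^ 2) * act (m * n) = (a + a ^ 2) * act (u : H) * act n := by rw [map_mul, ← mul_assoc, hm1]
          _ = act (u : H) * ((a + a ^ 2) * act n) := by rw [(hcom u).eq, mul_assoc]
          _ = (a + a ^ 2) * (act (u : H) * act (w : H)) := by
            rw [hn1, ← mul_assoc, ← (hcom u).eq, mul_assoc]
          _ = (a + a ^ 2) * (act (w : H) * act (u : H)) := by rw [hNM u hu' w w.2]
          _ = act (w : H) * ((a + a ^ 2) * act m) := by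
            rw [← mul_assoc, (hcom w).eq, mul_assoc, hm1]
          _ = (a + a ^ 2) * act n * act m := by rw [← mul_assoc, ← (hcom w).eq, hn1]
          _ = _ := by rw [map_mul, mul_assoc]
      rw [commutatorElement_def, show m * n * m⁻¹ * n⁻¹ = (m * n) * (n * m)⁻¹ by group, map_mul, ← mul_assoc, hswap,
        mul_assoc, ← map_mul, mul_inv_cancel, map_one, mul_one]
    have hpK : (a + a ^ 2) * a = a + a ^ 2 := by
      have hle : ⁅M, M⁆ ⊔ Q ≤ K.map M.subtype := sup_le (Subgroup.commutator_le.2 fun m hm n hn =>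
          ⟨⟨⁅m, n⁆, mul_mem (mul_mem (mul_mem hm hn) (inv_mem hm)) (inv_mem hn)⟩, hKM m hm n hn, rfl⟩)
        fun x hx => ⟨⟨x, h.NM (h.QN hx)⟩, (hmK _).2 (by
          show (a + a ^ 2) * act x = _
          rw [(hker x).2 hx, mul_one]), rfl⟩
      obtain ⟨m, hm, e⟩ := hle (h.perf hpM)
      rw [← show (m : H) = p from e] at ha
      exact ha ▸ (hmK m).1 hm
    refine hane ?_
    rw [add_mul, ← pow_two, ← pow_succ, ha3, add_comm a (a ^ 2), add_left_cancel_iff] at hpK
    exact hpK.symm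
  -- fixed-point-free
  have hquad' : a * a + a + 1 = 0 := by
    refine LinearMap.ext fun v => ?_
    obtain ⟨x, hx, hxv⟩ := hsurj ((a * a + a + 1) v)
    have hav : a (π x) = π x := by
      rw [hxv, ← Module.End.mul_apply, mul_add, mul_add, mul_one, ← mul_assoc, ← pow_three', ha3,
        show (1 : Module.End (ZMod 2) (Fin 12 → ZMod 2)) + a * a + a = a * a + a + 1 by abel]
    rw [ha, hact p x hx] at hav
    have hpx : p * x = x * p := by
      rcases hcases _ (Subgroup.Normal.conj_mem inferInstance x hx p) x hx hav with e | e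
      · exact mul_inv_eq_iff_eq_mul.1 e
      · exfalso
        refine h.z_ne ?_
        have h3 : p ^ 3 * x * (p ^ 3)⁻¹ = x * z := by
          have hz : p * z * p⁻¹ = z := by rw [h.cen, mul_inv_cancel_right]
          have h2 : p * (x * z) * p⁻¹ = x := by
            rw [show p * (x * z) * p⁻¹ = (p * x * p⁻¹) * (p * z * p⁻¹) by group, e, hz, mul_assoc, h.zz, mul_one]
          calc p ^ 3 * x * (p ^ 3)⁻¹ = p * (p * (p * x * p⁻¹) * p⁻¹) * p⁻¹ := by rw [pow_three']; group
            _ = p * x * p⁻¹ := by rw [e, h2, e]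
            _ = x * z := e
        rw [hp31, one_mul, inv_one, mul_one] at h3
        exact mul_left_cancel (a := x) (by rw [mul_one]; exact h3.symm)
    rw [← hxv, (hπ0 x hx).2 (hfix x hx hpx)]
    rfl
  refine ⟨hfix, ?_⟩
  -- normalising the three-group after a translation in N
  have hnorm : ∀ g : H, ∃ n ∈ N, n * g * p * (n * g)⁻¹ ∈ Subgroup.zpowers p := fun g => by
    haveI : Fact (Nat.Prime 3) := ⟨Nat.prime_three⟩
    have hP' : g * p * g⁻¹ ∈ N := Subgroup.Normal.conj_mem inferInstance p hpN g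
    have h3N : (Nat.card N).factorization 3 = 1 := by
      rw [h.cardN, Nat.factorization_mul (by norm_num) (by norm_num), Finsupp.add_apply,
        Nat.Prime.factorization_self Nat.prime_three, Nat.factorization_eq_zero_of_not_dvd (by norm_num)]
    have hP'c : Nat.card (Subgroup.zpowers (g * p * g⁻¹)) = 3 := by
      rw [Nat.card_zpowers, ← hp3]
      exact orderOf_injective (MulAut.conj g).toMonoidHom (MulEquiv.injective _) p
    let S1 : Sylow 3 N := Sylow.ofCard ((Subgroup.zpowers p).subgroupOf N) (by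
      rw [Nat.card_congr (Subgroup.subgroupOfEquivOfLe (Subgroup.zpowers_le.2 hpN)).toEquiv, Nat.card_zpowers, hp3,
        h3N, pow_one])
    let S2 : Sylow 3 N := Sylow.ofCard ((Subgroup.zpowers (g * p * g⁻¹)).subgroupOf N) (by
      rw [Nat.card_congr (Subgroup.subgroupOfEquivOfLe (Subgroup.zpowers_le.2 hP')).toEquiv, hP'c, h3N, pow_one])
    obtain ⟨n, hn⟩ := MulAction.exists_smul_eq N S2 S1
    refine ⟨n, n.2, ?_⟩
    have hmem : (⟨g * p * g⁻¹, hP'⟩ : N) ∈ (S2 : Subgroup N) := by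
      rw [Sylow.coe_ofCard]; exact Subgroup.mem_zpowers _
    have := Subgroup.smul_mem_pointwise_smul _ (MulAut.conj n) _ hmem
    change _ ∈ ((n • S2 : Sylow 3 N) : Subgroup N) at this
    rw [hn, Sylow.coe_ofCard, Subgroup.mem_subgroupOf] at this
    simpa [MulAut.smul_def, mul_assoc] using this
  refine ⟨?_, ?_⟩
  · by_contra hcon
    simp only [not_exists, not_and, not_not] at hcon
    have hall : ∀ g : H, act g * a = a * act g := fun g => by
      obtain ⟨n, hn, hng⟩ := hnorm g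
      have h1 := congrArg act (hcon (n * g) hng)
      simp only [map_mul, ← ha] at h1
      have hu : IsUnit (act n) := (Group.isUnit n).map act
      refine hu.mul_left_cancel ?_
      rw [← mul_assoc, h1, ← mul_assoc, ← mul_assoc, ha, hNM p hpN n (h.NM hn)]
    obtain ⟨w, γ, hw1, hw11, hwγ⟩ := exists_inverted
    obtain ⟨_, ⟨Ψ⟩⟩ := h.exists_aut
    obtain ⟨x, hx⟩ := QuotientGroup.mk'_surjective N (Ψ.symm w)
    obtain ⟨g, hg⟩ := QuotientGroup.mk'_surjective N (Ψ.symm γ)
    have hx11 : x ^ 11 ∈ N := (QuotientGroup.eq_one_iff _).1 (by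
      rw [← QuotientGroup.mk'_apply, map_pow, hx, ← map_pow, hw11, map_one])
    have hgx : g * x * g⁻¹ * (x ^ 10)⁻¹ ∈ N := (QuotientGroup.eq_one_iff _).1 (by
      rw [← QuotientGroup.mk'_apply, map_mul, map_mul, map_mul, map_inv, map_inv, map_pow, hx, hg, ← map_inv,
        ← map_mul, ← map_mul, hwγ, ← map_pow, ← map_inv, ← map_mul, ← mul_inv_rev, ← pow_succ, hw11, inv_one,
        map_one])
    have hxM : x ∈ M := by
      have h12 : x = (x ^ 11)⁻¹ * (x ^ 6 * x ^ 6) := by group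
      rw [h12]
      exact mul_mem (inv_mem (h.NM hx11)) (by rw [← pow_two]; exact h.idx ▸ Subgroup.pow_index_mem M _)
    haveI : (Q.subgroupOf N).Normal := Subgroup.normal_subgroupOf
    have hi : (Q.subgroupOf N).index = 3 := by
      have := (Q.subgroupOf N).card_mul_index
      rw [Nat.card_congr (Subgroup.subgroupOfEquivOfLe h.QN).toEquiv, h.cardQ, h.cardN] at this
      omega
    have hn3 : ∀ n ∈ N, act n ^ 3 = 1 := fun n hn => by
      rw [← map_pow, hker]
      exact hi ▸ Subgroup.mem_subgroupOf.1 (Subgroup.pow_index_mem (Q.subgroupOf N) ⟨n, hn⟩)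
    obtain ⟨u, hu⟩ : ∃ u, u = act x ^ 3 := ⟨_, rfl⟩
    have hu11 : u ^ 11 = 1 := by rw [hu, ← pow_mul, mul_comm, pow_mul, ← map_pow, hn3 _ hx11]
    have hgu : act g * u = u ^ 10 * act g := by
      rw [hu, ← map_pow, ← map_mul, show g * x ^ 3 = (g * x * g⁻¹ * (x ^ 10)⁻¹ * x ^ 10) ^ 3 * g by
        simp [pow_succ, mul_assoc], map_mul, map_pow, map_mul (act) _ (x ^ 10),
        (show Commute _ (act (x ^ 10)) from hNM _ hgx _ (pow_mem hxM 10)).mul_pow, hn3 _ hgx, one_mul, map_pow,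
        map_pow, ← pow_mul, ← pow_mul]
    have hginj : Function.Injective (act g) := fun u v e => by
      have h1 := congrArg (act g⁻¹) e
      rwa [← Module.End.mul_apply, ← Module.End.mul_apply, ← map_mul, inv_mul_cancel, map_one] at h1
    have hu1 : u = 1 := eleven_trivial (Module.finrank_fin_fun (ZMod 2)) hquad' hu11
      (by rw [hu, ← map_pow]; exact ham _ (pow_mem hxM 3)) (hall g) hgu hginj
    rw [hu, ← map_pow, hker] at hu1
    have h3 : w ^ 3 = 1 := by
      have := (QuotientGroup.eq_one_iff _).2 (h.QN hu1)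
      rw [← QuotientGroup.mk'_apply, map_pow, hx, ← map_pow, MulEquiv.map_eq_one_iff] at this
      exact this
    refine hw1 ?_
    rw [← pow_one w, show (1 : ℕ) = Nat.gcd 3 11 from rfl, pow_gcd_eq_one.2 ⟨h3, hw11⟩]
  · have hMD : M ≤ Q ⊔ Subgroup.centralizer ({p} : Set H) := fun m hm => by
      obtain ⟨n, hn, hnm⟩ := hnorm m
      have hD : n * m ∈ Subgroup.centralizer ({p} : Set H) := by
        obtain ⟨j, hj⟩ := (isOfFinOrder_of_finite p).mem_powers_iff_mem_zpowers.2 hnm
        have hj' : n * m * p * (n * m)⁻¹ = p ^ j := hj.symm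
        have hnmM : n * m ∈ M := mul_mem (h.NM hn) hm
        have e1 : act (n * m * p * (n * m)⁻¹) = a := by
          rw [map_mul, map_mul, ← ha, ← ham _ hnmM, mul_assoc, ← map_mul, mul_inv_cancel, map_one, mul_one]
        rw [hj', map_pow, ← ha] at e1
        have hj3 : j % 3 < 3 := Nat.mod_lt _ (by norm_num)
        rw [pow_eq_pow_mod j ha3] at e1
        rw [pow_eq_pow_mod j hp31] at hj'
        rw [Subgroup.mem_centralizer_singleton_iff]
        interval_cases hh : j % 3
        · exact absurd (e1.symm.trans (pow_zero a)) hane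
        · rw [pow_one] at hj'
          exact mul_inv_eq_iff_eq_mul.1 hj'
        · refine absurd ?_ hane
          have := congrArg (fun w => a * w) e1
          simp only [← pow_succ', ← pow_two] at this
          rw [ha3] at this
          calc a = a ^ 3 * a := by rw [ha3, one_mul]
            _ = a ^ 2 * a ^ 2 := by rw [← pow_succ, ← pow_add]
            _ = 1 := by rw [← this, one_mul]
      have : m = n⁻¹ * (n * m) := by group
      rw [this]
      refine mul_mem ?_ (Subgroup.mem_sup_right hD)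
      exact (sup_le_sup_left (Subgroup.zpowers_le.2 (Subgroup.mem_centralizer_singleton_iff.2 rfl)) Q)
        (hNp (inv_mem hn))
    have hmap : M.map (QuotientGroup.mk' Q) ≤
        (Subgroup.centralizer ({p} : Set H)).map (QuotientGroup.mk' Q) := by
      refine (Subgroup.map_mono hMD).trans ?_
      rw [Subgroup.map_sup, QuotientGroup.map_mk'_self, bot_sup_eq]
    have hp' : QuotientGroup.mk' Q p ∈
        ⁅Subgroup.centralizer ({p} : Set H), Subgroup.centralizer ({p} : Set H)⁆.map (QuotientGroup.mk' Q) := by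
      rw [Subgroup.map_commutator]
      refine Subgroup.commutator_mono hmap hmap ?_
      rw [← Subgroup.map_commutator]
      have := Subgroup.mem_map_of_mem (QuotientGroup.mk' Q) (h.perf hpM)
      rwa [Subgroup.map_sup, QuotientGroup.map_mk'_self, sup_bot_eq] at this
    obtain ⟨d, hd, hdp⟩ := hp'
    have hq : p⁻¹ * d ∈ Q := QuotientGroup.eq.1 hdp.symm
    have hdc : d * p = p * d := Subgroup.mem_centralizer_singleton_iff.1
      (Subgroup.commutator_le_self _ hd)
    rcases hfix _ hq (by rw [mul_assoc p⁻¹, hdc, inv_mul_cancel_left, mul_inv_cancel_left]) with e | e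
    · exact (congrArg (fun u => u ∈ ⁅Subgroup.centralizer ({p} : Set H), Subgroup.centralizer ({p} : Set H)⁆)
        (inv_mul_eq_one.1 e)).mpr hd
    · have hp4 : p = d ^ 4 := by
        rw [← mul_inv_cancel_left p d, e, (show Commute p z from h.cen p).mul_pow,
          show z ^ 4 = 1 by rw [show (4 : ℕ) = orderOf z * 2 by rw [h.ord], pow_mul, pow_orderOf_eq_one, one_pow],
          mul_one, pow_succ, hp31, one_mul]
      exact (congrArg (fun u => u ∈ ⁅Subgroup.centralizer ({p} : Set H), Subgroup.centralizer ({p} : Set H)⁆) hp4).mpr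
        (pow_mem hd 4)

end Hyp

end Cfsg.Agent.Spor.JFour.Bridge
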